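import Cfsg.Agent.H108.Nine.Root
import Cfsg.Prelude.Def_GeometricClasses

/-!
Groups `{x ⊗ θ(x)}`: induced automorphisms, stabilisers of sets of tensors.
-/

set_option autoImplicit false
set_option linter.unusedSectionVars false

namespace Cfsg.Agent.H108.Nine

open Matrix Cfsg Cfsg.Geo

/-- Conjugation induces an automorphism of the quotient by the kernel. -/
theorem aut_of_conj {G G' : Type*} [Group G] [Group G'] (Ψ : G →* G') (Z : Subgroup G) [Z.Normal]
    (hker : Ψ.ker = Z) (n : G') (h1 : ∀ x, n * Ψ x * n⁻¹ ∈ Ψ.range) (h2 : ∀ x, n⁻¹ * Ψ x * n ∈ Ψ.range) :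
    ∃ α : MulAut (G ⧸ Z), ∀ x y : G, α (QuotientGroup.mk x) = QuotientGroup.mk y → n * Ψ x * n⁻¹ = Ψ y := by
  subst hker
  let e : G ⧸ Ψ.ker ≃* Ψ.range := QuotientGroup.quotientKerEquivRange Ψ
  let c : MulAut Ψ.range :=
    { toFun := fun x => ⟨n * x * n⁻¹, by obtain ⟨_, y, rfl⟩ := x; exact h1 y⟩
      invFun := fun x => ⟨n⁻¹ * x * n, by obtain ⟨_, y, rfl⟩ := x; exact h2 y⟩
      left_inv := fun x => Subtype.ext (by
        change n⁻¹ * (n * (x : G') * n⁻¹) * n = x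
        group)
      right_inv := fun x => Subtype.ext (by
        change n * (n⁻¹ * (x : G') * n) * n⁻¹ = x
        group)
      map_mul' := fun x y => Subtype.ext (by
        change n * ((x : G') * y) * n⁻¹ = (n * (x : G') * n⁻¹) * (n * (y : G') * n⁻¹)
        group) }
  refine ⟨(e.trans c).trans e.symm, ?_⟩
  intro x y h
  have h3 : e.symm (c (e (QuotientGroup.mk x))) = QuotientGroup.mk y := h
  have h4 : c (e (QuotientGroup.mk x)) = e (QuotientGroup.mk y) := by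
    rw [← h3, MulEquiv.apply_symm_apply]
  exact congrArg Subtype.val h4

variable {F : Type*} [Field F]

/-- `a ⊗ b` in `GL` -/
def krGL (a b : SpecialLinearGroup (Fin 3) F) : GL (Fin 9) F :=
  ⟨kr a.1 b.1, kr (a⁻¹).1 (b⁻¹).1, by
    rw [← kr_mul, ← Matrix.SpecialLinearGroup.coe_mul, ← Matrix.SpecialLinearGroup.coe_mul, mul_inv_cancel,
      mul_inv_cancel]
    exact kr_one, by
    rw [← kr_mul, ← Matrix.SpecialLinearGroup.coe_mul, ← Matrix.SpecialLinearGroup.coe_mul, inv_mul_cancel,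
      inv_mul_cancel]
    exact kr_one⟩

theorem coe_krGL (a b : SpecialLinearGroup (Fin 3) F) : (krGL a b : Matrix (Fin 9) (Fin 9) F) = kr a.1 b.1 := rfl

theorem krGL_mul (a b a' b' : SpecialLinearGroup (Fin 3) F) : krGL (a * a') (b * b') = krGL a b * krGL a' b' :=
  Units.ext (kr_mul _ _ _ _)

theorem krGL_one : krGL (1 : SpecialLinearGroup (Fin 3) F) 1 = 1 := Units.ext kr_one

/-- the homomorphism `x ↦ α x ⊗ β x` -/
def krHom {G : Type*} [Group G] (α β : G →* SpecialLinearGroup (Fin 3) F) : G →* GL (Fin 9) F where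
  toFun x := krGL (α x) (β x)
  map_one' := by rw [map_one, map_one, krGL_one]
  map_mul' x y := by rw [map_mul, map_mul, krGL_mul]

theorem krHom_apply {G : Type*} [Group G] (α β : G →* SpecialLinearGroup (Fin 3) F) (x : G) :
    krHom α β x = krGL (α x) (β x) := rfl

theorem sl_ne_zero (a : SpecialLinearGroup (Fin 3) F) : a.1 ≠ 0 := by
  intro h
  have := a.2
  rw [h, Matrix.det_zero] at this
  exact zero_ne_one this

/-- `a ⊗ b` is a scalar only if `a` is. -/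
theorem scalar_of_krGL {a b : SpecialLinearGroup (Fin 3) F} (h : krGL a b ∈ scalars (Fin 9) F) :
    a ∈ Subgroup.center (SpecialLinearGroup (Fin 3) F) ∧ b ∈ Subgroup.center (SpecialLinearGroup (Fin 3) F) := by
  obtain ⟨c, hc⟩ := (mem_scalars_iff _).1 h
  have hone : (1 : Matrix (Fin 3) (Fin 3) F) ≠ 0 := one_ne_zero
  have h1 : kr ((c : F) • (1 : Matrix (Fin 3) (Fin 3) F)) 1 = kr a.1 b.1 := by
    rw [kr_smul_left, kr_one, ← hc, coe_krGL]
  obtain ⟨d, hd, h2, h3⟩ := kr_eq (smul_ne_zero c.ne_zero hone) hone h1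
  constructor
  · rw [Subgroup.mem_center_iff]
    intro y
    apply Subtype.ext
    rw [Matrix.SpecialLinearGroup.coe_mul, Matrix.SpecialLinearGroup.coe_mul, h2, smul_smul, Matrix.smul_mul,
      Matrix.mul_smul, Matrix.one_mul, Matrix.mul_one]
  · rw [Subgroup.mem_center_iff]
    intro y
    apply Subtype.ext
    rw [Matrix.SpecialLinearGroup.coe_mul, Matrix.SpecialLinearGroup.coe_mul, h3, Matrix.smul_mul,
      Matrix.mul_smul, Matrix.one_mul, Matrix.mul_one]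

theorem krGL_mem_scalars {a b : SpecialLinearGroup (Fin 3) F}
    (ha : a ∈ Subgroup.center (SpecialLinearGroup (Fin 3) F))
    (hb : b ∈ Subgroup.center (SpecialLinearGroup (Fin 3) F)) : krGL a b ∈ scalars (Fin 9) F := by
  obtain ⟨r, hr, hr'⟩ := Matrix.SpecialLinearGroup.mem_center_iff.1 ha
  obtain ⟨s, hs, hs'⟩ := Matrix.SpecialLinearGroup.mem_center_iff.1 hb
  have hr0 : r ≠ 0 := by
    rintro rfl
    rw [zero_pow (by simp)] at hr
    exact zero_ne_one hr
  have hs0 : s ≠ 0 := by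
    rintro rfl
    rw [zero_pow (by simp)] at hs
    exact zero_ne_one hs
  refine (mem_scalars_iff _).2 ⟨Units.mk0 (r * s) (mul_ne_zero hr0 hs0), ?_⟩
  rw [coe_krGL]
  have e1 : a.1 = r • 1 := by
    rw [smul_one_eq_diagonal]
    exact hr'.symm
  have e2 : b.1 = s • 1 := by
    rw [smul_one_eq_diagonal]
    exact hs'.symm
  rw [e1, e2, kr_smul_left, kr_smul_right, kr_one, smul_smul]
  rfl

/-- Two elements of order dividing `p` which agree modulo scalars agree. -/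
theorem eq_of_mk_eq (p : ℕ) [Fact p.Prime] [CharP F p] {A B : GL (Fin 9) F} (hA : A ^ p = 1) (hB : B ^ p = 1)
    (h : (QuotientGroup.mk A : GL (Fin 9) F ⧸ scalars (Fin 9) F) = QuotientGroup.mk B) : A = B := by
  have h1 : A⁻¹ * B ∈ scalars (Fin 9) F := QuotientGroup.eq.1 h
  obtain ⟨c, hc⟩ := (mem_scalars_iff _).1 h1
  have hB' : B = A * (A⁻¹ * B) := by group
  have hcen : ∀ X : GL (Fin 9) F, (A⁻¹ * B) * X = X * (A⁻¹ * B) := by
    intro X
    generalize A⁻¹ * B = Y at hc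
    apply Units.ext
    rw [Units.val_mul, Units.val_mul, hc, Matrix.smul_mul, Matrix.mul_smul, Matrix.one_mul, Matrix.mul_one]
  have h2 : (A⁻¹ * B) ^ p = 1 := by
    have h3 : (A * (A⁻¹ * B)) ^ p = A ^ p * (A⁻¹ * B) ^ p := (Commute.mul_pow (hcen A).symm p)
    rw [← hB', hB, hA, one_mul] at h3
    exact h3.symm
  have h4 : (c : F) ^ p = 1 := by
    have h5 := congrArg (fun X : GL (Fin 9) F => (X : Matrix (Fin 9) (Fin 9) F)) h2
    simp only [Units.val_pow_eq_pow_val] at h5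
    rw [hc, smul_pow, one_pow] at h5
    have h6 := congrFun (congrFun h5 0) 0
    simpa using h6
  have : ExpChar F p := ExpChar.prime Fact.out
  have h5 : (c : F) = 1 := by
    apply frobenius_inj F p
    rw [frobenius_def, frobenius_def, h4, one_pow]
  have h6 : A⁻¹ * B = 1 := by
    apply Units.ext
    rw [hc, h5, one_smul]
    rfl
  exact (inv_mul_eq_one.1 h6)

/-- The stabiliser of the set `g D`. -/
def stabD (D : (Fin 9 → F) → Prop) (g : GL (Fin 9) F) : Subgroup (GL (Fin 9) F) where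
  carrier := {m | ∀ w, D w ↔ D (((g⁻¹ * m * g : GL (Fin 9) F) : Matrix (Fin 9) (Fin 9) F) *ᵥ w)}
  one_mem' := by
    intro w
    have : g⁻¹ * 1 * g = 1 := by group
    rw [this, Units.val_one, Matrix.one_mulVec]
  mul_mem' := by
    intro a b ha hb w
    have : g⁻¹ * (a * b) * g = (g⁻¹ * a * g) * (g⁻¹ * b * g) := by group
    rw [this, Units.val_mul, ← Matrix.mulVec_mulVec, ← ha, ← hb]
  inv_mem' := by
    intro a ha w
    rw [ha (((g⁻¹ * a⁻¹ * g : GL (Fin 9) F) : Matrix (Fin 9) (Fin 9) F) *ᵥ w)]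
    have : ((g⁻¹ * a * g : GL (Fin 9) F) : Matrix (Fin 9) (Fin 9) F) *ᵥ
        (((g⁻¹ * a⁻¹ * g : GL (Fin 9) F) : Matrix (Fin 9) (Fin 9) F) *ᵥ w) = w := by
      rw [Matrix.mulVec_mulVec, ← Units.val_mul]
      have : (g⁻¹ * a * g) * (g⁻¹ * a⁻¹ * g) = 1 := by group
      rw [this, Units.val_one, Matrix.one_mulVec]
    rw [this]

theorem mem_stabD {D : (Fin 9 → F) → Prop} {g m : GL (Fin 9) F} :
    m ∈ stabD D g ↔ ∀ w, D w ↔ D (((g⁻¹ * m * g : GL (Fin 9) F) : Matrix (Fin 9) (Fin 9) F) *ᵥ w) := Iff.rfl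

/-- criterion for membership of a whole subgroup -/
theorem le_stabD {D : (Fin 9 → F) → Prop} {g : GL (Fin 9) F} {H : Subgroup (GL (Fin 9) F)}
    (h : ∀ m ∈ H, ∀ w, D w → D (((g⁻¹ * m * g : GL (Fin 9) F) : Matrix (Fin 9) (Fin 9) F) *ᵥ w)) :
    H ≤ stabD D g := by
  intro m hm w
  refine ⟨h m hm w, fun h1 => ?_⟩
  have h2 := h m⁻¹ (H.inv_mem hm) _ h1
  rw [Matrix.mulVec_mulVec, ← Units.val_mul] at h2
  have : (g⁻¹ * m⁻¹ * g) * (g⁻¹ * m * g) = 1 := by group
  rwa [this, Units.val_one, Matrix.one_mulVec] at h2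

/-- diagonal matrix changing one decomposable tensor -/
def dd (ζ : F) : Fin 9 → F := Pi.mulSingle (ix 0 0) ζ * Pi.mulSingle (ix 2 2) ζ⁻¹

theorem ix_ne {i j k l : Fin 3} (h : i ≠ k ∨ j ≠ l) : ix i j ≠ ix k l := by
  intro h1
  obtain ⟨h2, h3⟩ := ix_injective h1
  rcases h with h | h
  · exact h h2
  · exact h h3

theorem dd_00 (ζ : F) : dd ζ (ix 0 0) = ζ := by
  unfold dd
  rw [Pi.mul_apply, Pi.mulSingle_eq_same, Pi.mulSingle_eq_of_ne (ix_ne (Or.inl (by decide))), mul_one]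

theorem dd_01 (ζ : F) : dd ζ (ix 0 1) = 1 := by
  unfold dd
  rw [Pi.mul_apply, Pi.mulSingle_eq_of_ne (ix_ne (Or.inr (by decide))),
    Pi.mulSingle_eq_of_ne (ix_ne (Or.inl (by decide))), mul_one]

theorem dd_10 (ζ : F) : dd ζ (ix 1 0) = 1 := by
  unfold dd
  rw [Pi.mul_apply, Pi.mulSingle_eq_of_ne (ix_ne (Or.inl (by decide))),
    Pi.mulSingle_eq_of_ne (ix_ne (Or.inl (by decide))), mul_one]

theorem dd_11 (ζ : F) : dd ζ (ix 1 1) = 1 := by
  unfold dd
  rw [Pi.mul_apply, Pi.mulSingle_eq_of_ne (ix_ne (Or.inl (by decide))),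
    Pi.mulSingle_eq_of_ne (ix_ne (Or.inl (by decide))), mul_one]

theorem dd_det {ζ : F} (hζ : ζ ≠ 0) : (Matrix.diagonal (dd ζ)).det = 1 := by
  rw [Matrix.det_diagonal]
  unfold dd
  simp only [Pi.mul_apply]
  rw [Finset.prod_mul_distrib, Finset.prod_pi_mulSingle', Finset.prod_pi_mulSingle', if_pos (Finset.mem_univ _),
    if_pos (Finset.mem_univ _), mul_inv_cancel₀ hζ]

theorem dd_pow {ζ : F} {k : ℕ} (hζ : ζ ^ k = 1) (i : Fin 9) : dd ζ i ^ k = 1 := by
  unfold dd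
  rw [Pi.mul_apply, mul_pow]
  have e : ∀ (i j : Fin 9) (x : F), x ^ k = 1 → (Pi.mulSingle j x : Fin 9 → F) i ^ k = 1 := by
    intro i j x hx
    by_cases h : i = j
    · subst h
      rw [Pi.mulSingle_eq_same, hx]
    · rw [Pi.mulSingle_eq_of_ne h, one_pow]
  rw [e _ _ _ hζ, e _ _ _ (by rw [inv_pow, hζ, inv_one]), one_mul]

/-- The group `X = SL₃ ⊗ 1` cannot normalise `{x ⊗ θ x}`. -/
theorem contra {x y z : SpecialLinearGroup (Fin 3) F} {θx θz : SpecialLinearGroup (Fin 3) F}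
    (hθ : θx⁻¹ * θz ∈ Subgroup.center (SpecialLinearGroup (Fin 3) F) →
      x⁻¹ * z ∈ Subgroup.center (SpecialLinearGroup (Fin 3) F))
    (h : krGL (y * x * y⁻¹) θx = krGL z θz) :
    ∃ c : F, (y * x).1 = c • (x * y).1 := by
  obtain ⟨c, hc, h1, h2⟩ := kr_eq (sl_ne_zero _) (sl_ne_zero _)
    (congrArg (fun X : GL (Fin 9) F => (X : Matrix (Fin 9) (Fin 9) F)) h)
  have h3 : (θx⁻¹ * θz).1 = c⁻¹ • 1 := by
    rw [Matrix.SpecialLinearGroup.coe_mul, h2, Matrix.mul_smul, ← Matrix.SpecialLinearGroup.coe_mul,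
      inv_mul_cancel]
    rfl
  have h4 : θx⁻¹ * θz ∈ Subgroup.center (SpecialLinearGroup (Fin 3) F) := by
    rw [Subgroup.mem_center_iff]
    intro w
    generalize θx⁻¹ * θz = Y at h3
    apply Subtype.ext
    rw [Matrix.SpecialLinearGroup.coe_mul, Matrix.SpecialLinearGroup.coe_mul, h3, Matrix.smul_mul,
      Matrix.mul_smul, Matrix.one_mul, Matrix.mul_one]
  obtain ⟨r, -, hr⟩ := Matrix.SpecialLinearGroup.mem_center_iff.1 (hθ h4)
  have hr' : (x⁻¹ * z).1 = r • 1 := by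
    rw [smul_one_eq_diagonal]
    exact hr.symm
  have h5 : z.1 = r • x.1 := by
    have : z = x * (x⁻¹ * z) := by group
    rw [this, Matrix.SpecialLinearGroup.coe_mul, hr', Matrix.mul_smul, Matrix.mul_one]
  have h6 : (y * x * y⁻¹).1 = (c⁻¹ * r) • x.1 := by
    have : (y * x * y⁻¹).1 = c⁻¹ • z.1 := by
      rw [h1, smul_smul, inv_mul_cancel₀ hc, one_smul]
    rw [this, h5, smul_smul]
  refine ⟨c⁻¹ * r, ?_⟩
  have h7 : y * x = (y * x * y⁻¹) * y := by group
  rw [h7, Matrix.SpecialLinearGroup.coe_mul, h6, Matrix.smul_mul, ← Matrix.SpecialLinearGroup.coe_mul]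

end Cfsg.Agent.H108.Nine
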