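import Cfsg.Agent.H108.Nine.Ten

/-!
Root elements of `x ⊗ x^τ` and their images under a conjugation.
-/

set_option autoImplicit false
set_option linter.unusedSectionVars false

namespace Cfsg.Agent.H108.Nine

open Matrix

variable {F : Type*} [Field F]

/-- contraction of the first factor -/
def con1 (φ : Fin 3 → F) (z : Fin 9 → F) : Fin 3 → F := fun j => ∑ i, φ i * z (ix i j)

/-- contraction of the second factor -/
def con2 (φ : Fin 3 → F) (z : Fin 9 → F) : Fin 3 → F := fun i => ∑ j, φ j * z (ix i j)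

theorem mulVec_left (a φ : Fin 3 → F) (z : Fin 9 → F) :
    kr (vecMulVec a φ) 1 *ᵥ z = ten a (con1 φ z) := by
  apply ext_ix
  intro i j
  rw [kr_mulVec_ix, ten_ix, con1, Finset.mul_sum]
  refine Finset.sum_congr rfl fun k _ => ?_
  rw [Finset.sum_eq_single j, Matrix.one_apply_eq, vecMulVec_apply]
  · ring
  · intro l _ hl
    rw [Matrix.one_apply_ne hl.symm]
    ring
  · intro h
    exact (h (Finset.mem_univ _)).elim

theorem mulVec_right (a φ : Fin 3 → F) (z : Fin 9 → F) :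
    kr 1 (vecMulVec a φ) *ᵥ z = ten (con2 φ z) a := by
  apply ext_ix
  intro i j
  rw [kr_mulVec_ix, ten_ix, con2, Finset.sum_mul, Finset.sum_eq_single i]
  · refine Finset.sum_congr rfl fun k _ => ?_
    rw [Matrix.one_apply_eq, vecMulVec_apply]
    ring
  · intro l _ hl
    refine Finset.sum_eq_zero fun k _ => ?_
    rw [Matrix.one_apply_ne hl.symm]
    ring
  · intro h
    exact (h (Finset.mem_univ _)).elim

theorem mulVec_both (a φ b ψ : Fin 3 → F) (z : Fin 9 → F) :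
    kr (vecMulVec a φ) (vecMulVec b ψ) *ᵥ z = (φ ⬝ᵥ con2 ψ z) • ten a b := by
  apply ext_ix
  intro i j
  rw [kr_mulVec_ix, Pi.smul_apply, ten_ix, smul_eq_mul, dotProduct, Finset.sum_mul]
  refine Finset.sum_congr rfl fun k _ => ?_
  rw [con2, Finset.mul_sum, Finset.sum_mul]
  refine Finset.sum_congr rfl fun l _ => ?_
  rw [vecMulVec_apply, vecMulVec_apply]
  ring

theorem con1_ten (φ u v : Fin 3 → F) : con1 φ (ten u v) = (φ ⬝ᵥ u) • v := by
  funext j
  rw [con1, Pi.smul_apply, smul_eq_mul, dotProduct, Finset.sum_mul]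
  refine Finset.sum_congr rfl fun k _ => ?_
  rw [ten_ix]
  ring

theorem con2_ten (φ u v : Fin 3 → F) : con2 φ (ten u v) = (φ ⬝ᵥ v) • u := by
  funext j
  rw [con2, Pi.smul_apply, smul_eq_mul, dotProduct, Finset.sum_mul]
  refine Finset.sum_congr rfl fun k _ => ?_
  rw [ten_ix]
  ring

theorem ten_smul_left (c : F) (u v : Fin 3 → F) : ten (c • u) v = c • ten u v := by
  apply ext_ix
  intro i j
  rw [Pi.smul_apply, ten_ix, ten_ix, Pi.smul_apply, smul_eq_mul, smul_eq_mul]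
  ring

theorem ten_smul_right (c : F) (u v : Fin 3 → F) : ten u (c • v) = c • ten u v := by
  apply ext_ix
  intro i j
  rw [Pi.smul_apply, ten_ix, ten_ix, Pi.smul_apply, smul_eq_mul, smul_eq_mul]
  ring

theorem ten_add_left (u u' v : Fin 3 → F) : ten (u + u') v = ten u v + ten u' v := by
  apply ext_ix
  intro i j
  rw [Pi.add_apply, ten_ix, ten_ix, ten_ix, Pi.add_apply]
  ring

theorem ten_add_right (u v v' : Fin 3 → F) : ten u (v + v') = ten u v + ten u v' := by
  apply ext_ix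
  intro i j
  rw [Pi.add_apply, ten_ix, ten_ix, ten_ix, Pi.add_apply]
  ring

/-- `u ⊗ ·` as a linear map -/
def tenR (u : Fin 3 → F) : (Fin 3 → F) →ₗ[F] (Fin 9 → F) where
  toFun := ten u
  map_add' := ten_add_right u
  map_smul' c v := ten_smul_right c u v

/-- `· ⊗ v` as a linear map -/
def tenL (v : Fin 3 → F) : (Fin 3 → F) →ₗ[F] (Fin 9 → F) where
  toFun := fun u => ten u v
  map_add' u u' := ten_add_left u u' v
  map_smul' c u := ten_smul_left c u v

theorem exists_dot_one {φ : Fin 3 → F} (h : φ ≠ 0) : ∃ x : Fin 3 → F, φ ⬝ᵥ x = 1 := by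
  obtain ⟨i, hi⟩ := Function.ne_iff.1 h
  refine ⟨Pi.single i (φ i)⁻¹, ?_⟩
  rw [dotProduct_single]
  exact mul_inv_cancel₀ hi

theorem exists_third : ∀ j k : Fin 3, ∃ l : Fin 3, l ≠ k ∧ j ≠ l := by decide

/-- a second vector of the kernel of `φ`, and a functional killing `a` -/
theorem exists_mid {a φ : Fin 3 → F} (ha : a ≠ 0) (hφ : φ ≠ 0) (h : φ ⬝ᵥ a = 0) :
    ∃ w θ : Fin 3 → F, φ ⬝ᵥ w = 0 ∧ θ ⬝ᵥ w = 1 ∧ θ ⬝ᵥ a = 0 := by
  -- a vector `w` in the kernel of `φ`, not a multiple of `a`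
  obtain ⟨w, hw, hwa⟩ : ∃ w : Fin 3 → F, φ ⬝ᵥ w = 0 ∧ ∃ i j, w i * a j ≠ w j * a i := by
    by_contra hcon
    push Not at hcon
    -- the vectors `φ_k e_l - φ_l e_k`
    have key : ∀ k l i j : Fin 3, (φ k * (Pi.single l (1 : F) : Fin 3 → F) i - φ l * (Pi.single k (1 : F) : Fin 3 → F) i) * a j =
        (φ k * (Pi.single l (1 : F) : Fin 3 → F) j - φ l * (Pi.single k (1 : F) : Fin 3 → F) j) * a i := by
      intro k l i j
      have := hcon (φ k • Pi.single l 1 - φ l • Pi.single k 1) (by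
        rw [dotProduct_sub, dotProduct_smul, dotProduct_smul, dotProduct_single, dotProduct_single, smul_eq_mul,
          smul_eq_mul]
        ring) i j
      simpa [Pi.sub_apply, Pi.smul_apply, smul_eq_mul] using this
    obtain ⟨k, hk⟩ := Function.ne_iff.1 hφ
    change φ k ≠ 0 at hk
    -- for `l ≠ k`: all entries of `a` different from `l, k` vanish, ...
    have h1 : ∀ l, l ≠ k → ∀ j, j ≠ l → j ≠ k → a j = 0 := by
      intro l hl j hjl hjk
      have := key k l l j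
      rw [Pi.single_eq_same, Pi.single_eq_of_ne hl, Pi.single_eq_of_ne hjl, Pi.single_eq_of_ne hjk] at this
      have h2 : φ k * a j = 0 := by linear_combination this
      exact (mul_eq_zero.1 h2).resolve_left hk
    have h3 : ∀ j, j ≠ k → a j = 0 := by
      intro j hj
      obtain ⟨l, hl, hlj⟩ := exists_third j k
      exact h1 l hl j hlj hj
    apply ha
    funext j
    by_cases hj : j = k
    · subst hj
      rw [dotProduct, Finset.sum_eq_single j] at h
      · exact (mul_eq_zero.1 h).resolve_left hk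
      · intro b _ hb
        rw [h3 b hb, mul_zero]
      · intro h'
        exact (h' (Finset.mem_univ _)).elim
    · exact h3 j hj
  obtain ⟨i, j, hij⟩ := hwa
  have hne : i ≠ j := by
    rintro rfl
    exact hij rfl
  have hd : w i * a j - w j * a i ≠ 0 := sub_ne_zero.2 hij
  refine ⟨w, (w i * a j - w j * a i)⁻¹ • (a j • Pi.single i 1 - a i • Pi.single j 1), hw, ?_, ?_⟩
  · rw [smul_dotProduct, sub_dotProduct, smul_dotProduct, smul_dotProduct, single_dotProduct, single_dotProduct,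
      smul_eq_mul, smul_eq_mul, smul_eq_mul, inv_mul_eq_div, div_eq_one_iff_eq hd]
    ring
  · rw [smul_dotProduct, sub_dotProduct, smul_dotProduct, smul_dotProduct, single_dotProduct, single_dotProduct,
      smul_eq_mul, smul_eq_mul, smul_eq_mul]
    ring

/-- **Rank lemma**: `α G ⊗ 1 + β 1 ⊗ G' + γ G ⊗ G'` has rank three only if `α β = 0`. -/
theorem rank_lemma {b ψ b' ψ' : Fin 3 → F} (hb : b ≠ 0) (hψ : ψ ≠ 0) (hψb : ψ ⬝ᵥ b = 0)
    (hb' : b' ≠ 0) (hψ' : ψ' ≠ 0) (α β γ : F)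
    (K : (Fin 3 → F) →ₗ[F] (Fin 9 → F))
    (hK : ∀ z, ∃ v, (α • kr (vecMulVec b ψ) 1 + β • kr 1 (vecMulVec b' ψ') +
      γ • kr (vecMulVec b ψ) (vecMulVec b' ψ')) *ᵥ z = K v) : α = 0 ∨ β = 0 := by
  by_contra hcon
  push Not at hcon
  obtain ⟨hα, hβ⟩ := hcon
  obtain ⟨x, hx⟩ := exists_dot_one hψ
  obtain ⟨x', hx'⟩ := exists_dot_one hψ'
  obtain ⟨w, θ, hw, hθw, hθb⟩ := exists_mid hb hψ hψb
  set R := α • kr (vecMulVec b ψ) 1 + β • kr 1 (vecMulVec b' ψ') +
      γ • kr (vecMulVec b ψ) (vecMulVec b' ψ') with hR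
  let J : ((Fin 3 → F) × F) →ₗ[F] (Fin 9 → F) :=
    (tenR x).comp (LinearMap.fst F _ _) + (LinearMap.snd F (Fin 3 → F) F).smulRight (ten w x')
  have hJ : ∀ y c, J (y, c) = ten x y + c • ten w x' := fun y c => rfl
  let RJ : ((Fin 3 → F) × F) →ₗ[F] (Fin 9 → F) := (Matrix.mulVecLin R).comp J
  have hRJ : ∀ y c, RJ (y, c) = α • ten b y + ((ψ' ⬝ᵥ y) * β) • ten x b' +
      ((ψ' ⬝ᵥ y) * γ) • ten b b' + (c * β) • ten w b' := by
    intro y c
    change R *ᵥ (ten x y + c • ten w x') = _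
    rw [hR, Matrix.mulVec_add, Matrix.mulVec_smul]
    simp only [Matrix.add_mulVec, Matrix.smul_mulVec, mulVec_left, mulVec_right, mulVec_both, con1_ten, con2_ten,
      hx, hx', hw, one_smul, zero_smul, dotProduct_smul, smul_eq_mul, mul_one, ten_smul_left]
    have e0 : ten b (0 : Fin 3 → F) = 0 := by
      have := ten_smul_right 0 b 0
      rwa [zero_smul, zero_smul] at this
    rw [e0]
    module
  have hinj : Function.Injective RJ := by
    rw [← LinearMap.ker_eq_bot, LinearMap.ker_eq_bot']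
    rintro ⟨y, c⟩ h0
    rw [hRJ] at h0
    -- contract with `ψ`
    have h1 : ∀ j, (ψ' ⬝ᵥ y) * β * b' j = 0 := by
      intro j
      generalize ψ' ⬝ᵥ y = δ at h0 ⊢
      have e : ∑ i, ψ i * ((α • ten b y + (δ * β) • ten x b' +
        (δ * γ) • ten b b' + (c * β) • ten w b') (ix i j)) = 0 := by
        rw [h0]
        simp
      have e2 : ∑ i, ψ i * ((α • ten b y + (δ * β) • ten x b' +
        (δ * γ) • ten b b' + (c * β) • ten w b') (ix i j)) =
          (α * y j) * (ψ ⬝ᵥ b) + (δ * β * b' j) * (ψ ⬝ᵥ x) +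
          (δ * γ * b' j) * (ψ ⬝ᵥ b) + (c * β * b' j) * (ψ ⬝ᵥ w) := by
        rw [dotProduct, dotProduct, dotProduct, Finset.mul_sum, Finset.mul_sum, Finset.mul_sum, Finset.mul_sum,
          ← Finset.sum_add_distrib, ← Finset.sum_add_distrib, ← Finset.sum_add_distrib]
        refine Finset.sum_congr rfl fun i _ => ?_
        simp only [Pi.add_apply, Pi.smul_apply, smul_eq_mul, ten_ix]
        ring
      rw [e, hψb, hx, hw] at e2
      linear_combination -e2
    obtain ⟨j0, hj0⟩ := Function.ne_iff.1 hb'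
    change b' j0 ≠ 0 at hj0
    have h2 : ψ' ⬝ᵥ y = 0 := by
      have := h1 j0
      rcases mul_eq_zero.1 this with h | h
      · exact (mul_eq_zero.1 h).resolve_right hβ
      · exact (hj0 h).elim
    have h3 : ∀ i j, α * (b i * y j) + c * β * (w i * b' j) = 0 := by
      intro i j
      have := congrFun h0 (ix i j)
      simp only [Pi.add_apply, Pi.smul_apply, smul_eq_mul, ten_ix, h2, zero_mul, add_zero, Pi.zero_apply] at this
      exact this
    have h4 : c = 0 := by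
      have e : ∑ i, θ i * (α * (b i * y j0) + c * β * (w i * b' j0)) = 0 := by
        simp [h3]
      have e2 : ∑ i, θ i * (α * (b i * y j0) + c * β * (w i * b' j0)) =
          (α * y j0) * (θ ⬝ᵥ b) + (c * β * b' j0) * (θ ⬝ᵥ w) := by
        rw [dotProduct, dotProduct, Finset.mul_sum, Finset.mul_sum, ← Finset.sum_add_distrib]
        refine Finset.sum_congr rfl fun i _ => ?_
        ring
      rw [e, hθb, hθw] at e2
      have e3 : c * (β * b' j0) = 0 := by linear_combination -e2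
      exact (mul_eq_zero.1 e3).resolve_right (mul_ne_zero hβ hj0)
    obtain ⟨i0, hi0⟩ := Function.ne_iff.1 hb
    change b i0 ≠ 0 at hi0
    have h5 : y = 0 := by
      funext j
      have := h3 i0 j
      rw [h4] at this
      have e : α * b i0 * y j = 0 := by linear_combination this
      exact (mul_eq_zero.1 e).resolve_left (mul_ne_zero hα hi0)
    rw [h4, h5]
    rfl
  have h1 : Module.finrank F (LinearMap.range RJ) = 4 := by
    rw [LinearMap.finrank_range_of_inj hinj]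
    simp
  have h2 : LinearMap.range RJ ≤ LinearMap.range K := by
    rintro _ ⟨y, rfl⟩
    obtain ⟨v, hv⟩ := hK (J y)
    exact ⟨v, hv.symm⟩
  have h3 := Submodule.finrank_mono h2
  have h4 : Module.finrank F (LinearMap.range K) ≤ 3 := by
    have := LinearMap.finrank_range_le K
    simpa using this
  omega

/-- span lemma -/
theorem span_lemma {V : Type*} [AddCommGroup V] [Module F V] (W : Submodule F V) (C1 C2 C3 : V) (τ : F ≃+* F)
    {μ t0 : F} (hμ : τ μ ≠ μ) (ht0 : t0 ≠ 0)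
    (h : ∀ t : F, t = t0 ∨ t = μ * t0 ∨ t = μ * (μ * t0) → t • C1 + τ t • C2 + (t * τ t) • C3 ∈ W) :
    C1 ∈ W ∧ C2 ∈ W := by
  have hμ0 : μ ≠ 0 := by
    rintro rfl
    exact hμ (map_zero τ)
  have hμ1 : μ ≠ 1 := by
    rintro rfl
    exact hμ (map_one τ)
  have hτμ0 : τ μ ≠ 0 := (map_ne_zero τ).2 hμ0
  have hτμ1 : τ μ ≠ 1 := by
    intro h1
    exact hμ1 ((map_eq_one_iff τ τ.injective).1 h1)
  have hτt0 : τ t0 ≠ 0 := (map_ne_zero τ).2 ht0
  have h0 := h t0 (Or.inl rfl)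
  have h1 := h (μ * t0) (Or.inr (Or.inl rfl))
  have h2 := h (μ * (μ * t0)) (Or.inr (Or.inr rfl))
  rw [map_mul] at h1
  rw [map_mul, map_mul] at h2
  -- eliminate `C3`
  have h3 : (μ * (1 - τ μ) * t0) • C1 + (τ μ * (1 - μ) * τ t0) • C2 ∈ W := by
    have := W.sub_mem h1 (W.smul_mem (μ * τ μ) h0)
    convert this using 1
    module
  have h4 : (μ * (1 - τ μ) * (μ * t0)) • C1 + (τ μ * (1 - μ) * (τ μ * τ t0)) • C2 ∈ W := by
    have := W.sub_mem h2 (W.smul_mem (μ * τ μ) h1)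
    convert this using 1
    module
  constructor
  · have h5 : (μ * (1 - τ μ) * t0 * (τ μ - μ)) • C1 ∈ W := by
      have := W.sub_mem (W.smul_mem (τ μ) h3) h4
      convert this using 1
      module
    have h6 : μ * (1 - τ μ) * t0 * (τ μ - μ) ≠ 0 :=
      mul_ne_zero (mul_ne_zero (mul_ne_zero hμ0 (sub_ne_zero.2 hτμ1.symm)) ht0) (sub_ne_zero.2 hμ)
    have := W.smul_mem (μ * (1 - τ μ) * t0 * (τ μ - μ))⁻¹ h5
    rwa [smul_smul, inv_mul_cancel₀ h6, one_smul] at this
  · have h5 : (τ μ * (1 - μ) * τ t0 * (μ - τ μ)) • C2 ∈ W := by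
      have := W.sub_mem (W.smul_mem μ h3) h4
      convert this using 1
      module
    have h6 : τ μ * (1 - μ) * τ t0 * (μ - τ μ) ≠ 0 :=
      mul_ne_zero (mul_ne_zero (mul_ne_zero hτμ0 (sub_ne_zero.2 hμ1.symm)) hτt0) (sub_ne_zero.2 hμ.symm)
    have := W.smul_mem (τ μ * (1 - μ) * τ t0 * (μ - τ μ))⁻¹ h5
    rwa [smul_smul, inv_mul_cancel₀ h6, one_smul] at this

/-- the image of the three-space in the two cases -/
theorem image_cases {b ψ b' ψ' : Fin 3 → F} {α β γ : F} (h : α = 0 ∨ β = 0) {C : Matrix (Fin 9) (Fin 9) F}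
    (hC : C = α • kr (vecMulVec b ψ) 1 + β • kr 1 (vecMulVec b' ψ') +
      γ • kr (vecMulVec b ψ) (vecMulVec b' ψ')) :
    (∀ z, ∃ v, C *ᵥ z = ten b v) ∨ (∀ z, ∃ v, C *ᵥ z = ten v b') := by
  rcases h with h | h
  · right
    intro z
    refine ⟨β • con2 ψ' z + (γ * (ψ ⬝ᵥ con2 ψ' z)) • b, ?_⟩
    rw [hC, h]
    simp only [Matrix.add_mulVec, Matrix.smul_mulVec, mulVec_left, mulVec_right, mulVec_both, ten_add_left,
      ten_smul_left]
    module
  · left
    intro z
    refine ⟨α • con1 ψ z + (γ * (ψ ⬝ᵥ con2 ψ' z)) • b', ?_⟩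
    rw [hC, h]
    simp only [Matrix.add_mulVec, Matrix.smul_mulVec, mulVec_left, mulVec_right, mulVec_both, ten_add_right,
      ten_smul_right]
    module

/-- **Core lemma**: a matrix conjugating a root subgroup of `{x ⊗ x^τ}` to a root subgroup maps the 3-spaces
`a ⊗ B`, `A ⊗ a'` to spaces of the same kind. -/
theorem core {N N' : Matrix (Fin 9) (Fin 9) F} (hN : N' * N = 1) (τ : F ≃+* F)
    {μ t0 : F} (hμ : τ μ ≠ μ) (ht0 : t0 ≠ 0) {a φ a' φ' b ψ b' ψ' : Fin 3 → F}
    (hφ : φ ≠ 0) (hφ' : φ' ≠ 0) (hb : b ≠ 0) (hψ : ψ ≠ 0) (hψb : ψ ⬝ᵥ b = 0)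
    (hb' : b' ≠ 0) (hψ' : ψ' ≠ 0)
    (h : ∀ t : F, t = t0 ∨ t = μ * t0 ∨ t = μ * (μ * t0) → ∃ s s' s'' : F,
      N * (1 + t • kr (vecMulVec a φ) 1 + τ t • kr 1 (vecMulVec a' φ') +
        (t * τ t) • kr (vecMulVec a φ) (vecMulVec a' φ')) =
      (1 + s • kr (vecMulVec b ψ) 1 + s' • kr 1 (vecMulVec b' ψ') +
        s'' • kr (vecMulVec b ψ) (vecMulVec b' ψ')) * N) :
    ((∀ v, ∃ z, N *ᵥ ten a v = ten b z) ∨ (∀ v, ∃ z, N *ᵥ ten a v = ten z b')) ∧
    ((∀ v, ∃ z, N *ᵥ ten v a' = ten b z) ∨ (∀ v, ∃ z, N *ᵥ ten v a' = ten z b')) := by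
  have hN' : N * N' = 1 := mul_eq_one_comm.1 hN
  let W : Submodule F (Matrix (Fin 9) (Fin 9) F) :=
    Submodule.span F {kr (vecMulVec b ψ) 1, kr 1 (vecMulVec b' ψ'), kr (vecMulVec b ψ) (vecMulVec b' ψ')}
  obtain ⟨h1, h2⟩ := span_lemma W (N * kr (vecMulVec a φ) 1 * N') (N * kr 1 (vecMulVec a' φ') * N')
    (N * kr (vecMulVec a φ) (vecMulVec a' φ') * N') τ hμ ht0 (by
    intro t ht
    obtain ⟨s, s', s'', hs⟩ := h t ht
    have h3 : t • (N * kr (vecMulVec a φ) 1 * N') + τ t • (N * kr 1 (vecMulVec a' φ') * N') +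
        (t * τ t) • (N * kr (vecMulVec a φ) (vecMulVec a' φ') * N') =
        s • kr (vecMulVec b ψ) 1 + s' • kr 1 (vecMulVec b' ψ') +
        s'' • kr (vecMulVec b ψ) (vecMulVec b' ψ') := by
      have h4 := congrArg (fun X => X * N') hs
      simp only [Matrix.mul_assoc, hN', Matrix.mul_one] at h4
      simp only [Matrix.mul_add, Matrix.add_mul, Matrix.one_mul, Matrix.mul_smul,
        Matrix.smul_mul, hN', ← Matrix.mul_assoc] at h4
      rw [add_assoc, add_assoc, add_assoc, add_assoc] at h4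
      have h5 := add_left_cancel h4
      rw [add_assoc, add_assoc]
      exact h5
    rw [h3]
    exact Submodule.mem_span_triple.2 ⟨s, s', s'', rfl⟩)
  obtain ⟨α, β, γ, hC1⟩ := Submodule.mem_span_triple.1 h1
  obtain ⟨α', β', γ', hC2⟩ := Submodule.mem_span_triple.1 h2
  constructor
  · have hr := rank_lemma hb hψ hψb hb' hψ' α β γ ((Matrix.mulVecLin N).comp (tenR a)) (by
      intro z
      rw [hC1, ← Matrix.mulVec_mulVec, ← Matrix.mulVec_mulVec, mulVec_left]
      exact ⟨_, rfl⟩)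
    obtain ⟨x, hx⟩ := exists_dot_one hφ
    have e : ∀ v, N *ᵥ ten a v = (N * kr (vecMulVec a φ) 1 * N') *ᵥ (N *ᵥ ten x v) := by
      intro v
      rw [Matrix.mulVec_mulVec, Matrix.mul_assoc, hN, Matrix.mul_one, ← Matrix.mulVec_mulVec, mulVec_left,
        con1_ten, hx, one_smul]
    rcases image_cases hr hC1.symm with h6 | h6
    · left
      intro v
      rw [e]
      exact h6 _
    · right
      intro v
      rw [e]
      exact h6 _
  · have hr := rank_lemma hb hψ hψb hb' hψ' α' β' γ' ((Matrix.mulVecLin N).comp (tenL a')) (by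
      intro z
      rw [hC2, ← Matrix.mulVec_mulVec, ← Matrix.mulVec_mulVec, mulVec_right]
      exact ⟨_, rfl⟩)
    obtain ⟨x, hx⟩ := exists_dot_one hφ'
    have e : ∀ v, N *ᵥ ten v a' = (N * kr 1 (vecMulVec a' φ') * N') *ᵥ (N *ᵥ ten v x) := by
      intro v
      rw [Matrix.mulVec_mulVec, Matrix.mul_assoc, hN, Matrix.mul_one, ← Matrix.mulVec_mulVec, mulVec_right,
        con2_ten, hx, one_smul]
    rcases image_cases hr hC2.symm with h6 | h6
    · left
      intro v
      rw [e]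
      exact h6 _
    · right
      intro v
      rw [e]
      exact h6 _

/-- `(1 + t E) ⊗ (1 + s E')` expanded -/
theorem kr_one_add (E E' : Matrix (Fin 3) (Fin 3) F) (t s : F) :
    kr (1 + t • E) (1 + s • E') = 1 + t • kr E 1 + s • kr 1 E' + (t * s) • kr E E' := by
  rw [kr_add_left, kr_add_right, kr_add_right, kr_one, kr_smul_right, kr_smul_left, kr_smul_left, kr_smul_right,
    smul_smul]
  abel

/-- A decomposable tensor with a modified entry is not decomposable. -/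
theorem not_dec {u v : Fin 3 → F} {ζ : F} (hζ : ζ ≠ 1) (hu0 : u 0 ≠ 0) (hu1 : u 1 ≠ 0) (hv0 : v 0 ≠ 0)
    (hv1 : v 1 ≠ 0) {d : Fin 9 → F} (hd00 : d (ix 0 0) = ζ) (hd01 : d (ix 0 1) = 1) (hd10 : d (ix 1 0) = 1)
    (hd11 : d (ix 1 1) = 1) (x y : Fin 3 → F) : (Matrix.diagonal d) *ᵥ ten u v ≠ ten x y := by
  intro h
  have e : ∀ i j, d (ix i j) * (u i * v j) = x i * y j := by
    intro i j
    have := congrFun h (ix i j)
    rwa [Matrix.mulVec_diagonal, ten_ix, ten_ix] at this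
  have h00 := e 0 0
  have h01 := e 0 1
  have h10 := e 1 0
  have h11 := e 1 1
  rw [hd00] at h00
  rw [hd01] at h01
  rw [hd10] at h10
  rw [hd11] at h11
  have h1 : (ζ - 1) * (u 0 * v 0 * (u 1 * v 1)) = 0 := by
    linear_combination (u 1 * v 1) * h00 + x 0 * y 0 * h11 - (u 1 * v 0) * h01 - (x 0 * y 1) * h10
  exact mul_ne_zero (sub_ne_zero.2 hζ) (mul_ne_zero (mul_ne_zero hu0 hv0) (mul_ne_zero hu1 hv1)) h1

end Cfsg.Agent.H108.Nine
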