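import Cfsg.Agent.H108.Nine.Common
import Cfsg.Agent.ClassicalGeometry.AutPSL.SylowU
import Cfsg.Agent.H920.NineDefs

/-!
`SL₉(F)`: the groups `{x ⊗ x^τ}` and `{x ⊗ x^{-τT}}`, `x ∈ SL₃(F)`, are not the residual core of a maximal subgroup.
-/

set_option autoImplicit false
set_option linter.unusedSectionVars false

namespace Cfsg.Agent.H108.Nine

open Matrix Cfsg Cfsg.Geo
open Cfsg.Agent.ClassicalGeometry.AutPSL.Root (tr coe_tr pr)
open Cfsg.Agent.ClassicalGeometry.AutPSL.SylowU (exists_map_tr)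

variable {F : Type*} [Field F]

theorem exists_perp (a : Fin 3 → F) : ∃ φ : Fin 3 → F, φ ≠ 0 ∧ φ ⬝ᵥ a = 0 := by
  by_cases h : a 0 = 0
  · refine ⟨Pi.single 0 1, ?_, ?_⟩
    · intro h0
      have := congrFun h0 0
      rw [Pi.single_eq_same] at this
      exact one_ne_zero this
    · rw [single_dotProduct, h, mul_zero]
  · refine ⟨a 1 • Pi.single 0 1 - a 0 • Pi.single 1 1, ?_, ?_⟩
    · intro h0
      have := congrFun h0 1
      rw [Pi.sub_apply, Pi.smul_apply, Pi.smul_apply, Pi.single_eq_same, Pi.single_eq_of_ne (by decide)] at this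
      simp [h] at this
    · rw [sub_dotProduct, smul_dotProduct, smul_dotProduct, single_dotProduct, single_dotProduct, smul_eq_mul,
        smul_eq_mul]
      ring

theorem one_add_pow {n : Type*} [Fintype n] [DecidableEq n] {E : Matrix n n F} (hE : E * E = 0) (k : ℕ) :
    (1 + E) ^ k = 1 + (k : F) • E := by
  induction k with
  | zero => simp
  | succ k ih =>
    rw [pow_succ, ih, Matrix.mul_add, Matrix.mul_one, Matrix.add_mul, Matrix.one_mul, Matrix.smul_mul, hE,
      smul_zero, add_zero, Nat.cast_succ, add_smul, one_smul]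
    abel

theorem tr_pow_char (p : ℕ) [CharP F p] (a φ : Fin 3 → F) (h : φ ⬝ᵥ a = 0) : tr a φ h ^ p = 1 := by
  apply Subtype.ext
  rw [Matrix.SpecialLinearGroup.coe_pow, coe_tr, one_add_pow, CharP.cast_eq_zero, zero_smul, add_zero]
  · rfl
  · rw [vecMulVec_mul_vecMulVec, h, zero_smul]
    ext i j
    simp [vecMulVec_apply]

/-- decomposable tensors -/
def Dec (w : Fin 9 → F) : Prop := ∃ u v : Fin 3 → F, w = ten u v

theorem det_conj_eq (g m : GL (Fin 9) F) (hm : (m : Matrix (Fin 9) (Fin 9) F).det = 1) :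
    g * m * g⁻¹ ∈ specialLinear (Fin 9) F := by
  have hm' : m ∈ specialLinear (Fin 9) F := by
    apply MonoidHom.mem_ker.2
    apply Units.ext
    rw [Matrix.GeneralLinearGroup.val_det_apply, hm, Units.val_one]
  have : (specialLinear (Fin 9) F).Normal := MonoidHom.normal_ker _
  exact this.conj_mem m hm' g

theorem exists_noncomm : ∃ x y : SpecialLinearGroup (Fin 3) F, ∀ c : F, (y * x).1 ≠ c • (x * y).1 := by
  refine ⟨⟨!![1, 1, 0; 0, 1, 0; 0, 0, 1], by simp [Matrix.det_fin_three]⟩,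
    ⟨!![1, 0, 0; 0, 1, 1; 0, 0, 1], by simp [Matrix.det_fin_three]⟩, fun c h => ?_⟩
  have h' : (!![1, 0, 0; 0, 1, 1; 0, 0, 1] * !![1, 1, 0; 0, 1, 0; 0, 0, 1] : Matrix (Fin 3) (Fin 3) F) =
      c • (!![1, 1, 0; 0, 1, 0; 0, 0, 1] * !![1, 0, 0; 0, 1, 1; 0, 0, 1] : Matrix (Fin 3) (Fin 3) F) := h
  have h0 := congrFun (congrFun h' 0) 0
  have h2 := congrFun (congrFun h' 0) 2
  simp [Matrix.mul_apply, Fin.sum_univ_three] at h0 h2
  rw [← h2] at h0
  exact one_ne_zero h0

/-- **Main theorem, linear case.** -/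
theorem k3_sl [Fintype F] {H P : Subgroup (GL (Fin 9) F)} (hnorm : ∀ h ∈ H, ∀ x ∈ P, h * x * h⁻¹ ∈ P)
    (hH : IsMaximalIn (specialLinear (Fin 9) F) H) (τ : F ≃+* F) (hτ : τ ≠ RingEquiv.refl F) (g : GL (Fin 9) F)
    (θ : SpecialLinearGroup (Fin 3) F ≃* SpecialLinearGroup (Fin 3) F)
    (hθ : ∀ a φ : Fin 3 → F, a ≠ 0 → φ ≠ 0 → ∃ a' φ' : Fin 3 → F, a' ≠ 0 ∧ φ' ≠ 0 ∧
      ∀ (t : F) (h : φ ⬝ᵥ (t • a) = 0), (θ (tr (t • a) φ h)).1 = 1 + τ t • vecMulVec a' φ')
    (hP : ∀ y : GL (Fin 9) F, y ∈ P ↔ ∃ x : SpecialLinearGroup (Fin 3) F, y = g * krGL x (θ x) * g⁻¹) : False := by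
  classical
  obtain ⟨p, hp⟩ := CharP.exists F
  have hpf : Fact p.Prime := ⟨CharP.char_is_prime F p⟩
  obtain ⟨μ, hμ⟩ : ∃ μ, τ μ ≠ μ := by
    by_contra hcon
    push Not at hcon
    exact hτ (RingEquiv.ext hcon)
  have hμ0 : μ ≠ 0 := by
    rintro rfl
    exact hμ (map_zero τ)
  have hμ1 : μ ≠ 1 := by
    rintro rfl
    exact hμ (map_one τ)
  let K : SpecialLinearGroup (Fin 3) F →* GL (Fin 9) F := krHom (MonoidHom.id _) θ.toMonoidHom
  have hK : ∀ x, K x = krGL x (θ x) := fun x => rfl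
  have hnorm' : ∀ h ∈ H, ∀ x, ∃ y, (g⁻¹ * h * g) * K x * (g⁻¹ * h * g)⁻¹ = K y := by
    intro h hh x
    obtain ⟨y, hy⟩ := (hP _).1 (hnorm h hh (g * krGL x (θ x) * g⁻¹) ((hP _).2 ⟨x, rfl⟩))
    refine ⟨y, ?_⟩
    rw [hK, hK]
    have : krGL y (θ y) = g⁻¹ * (g * krGL y (θ y) * g⁻¹) * g := by group
    rw [this, ← hy]
    group
  let Ψ : SpecialLinearGroup (Fin 3) F →* (GL (Fin 9) F ⧸ scalars (Fin 9) F) := (QuotientGroup.mk' _).comp K
  have hker : Ψ.ker = Subgroup.center (SpecialLinearGroup (Fin 3) F) := by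
    ext x
    have e : x ∈ Ψ.ker ↔ krGL x (θ x) ∈ scalars (Fin 9) F := by
      rw [MonoidHom.mem_ker]
      exact QuotientGroup.eq_one_iff _
    rw [e]
    constructor
    · intro h
      exact (scalar_of_krGL h).1
    · intro h
      apply krGL_mem_scalars h
      rw [Subgroup.mem_center_iff] at h ⊢
      intro z
      obtain ⟨z, rfl⟩ := θ.surjective z
      rw [← map_mul, h, map_mul]
  -- the action of `H` on decomposable tensors
  have hdec : ∀ h ∈ H, ∀ w, Dec w → Dec (((g⁻¹ * h * g : GL (Fin 9) F) : Matrix (Fin 9) (Fin 9) F) *ᵥ w) := by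
    rintro h hh _ ⟨a, v, rfl⟩
    set N : GL (Fin 9) F := g⁻¹ * h * g with hN
    by_cases ha : a = 0
    · subst ha
      refine ⟨0, 0, ?_⟩
      have e : ∀ v : Fin 3 → F, ten (0 : Fin 3 → F) v = 0 := by
        intro v
        have := ten_smul_left 0 (0 : Fin 3 → F) v
        rwa [zero_smul, zero_smul] at this
      rw [e, e, Matrix.mulVec_zero]
    obtain ⟨φ, hφ, hφa⟩ := exists_perp a
    obtain ⟨α, hα⟩ := aut_of_conj Ψ (Subgroup.center _) hker (QuotientGroup.mk N) (by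
      intro x
      obtain ⟨y, hy⟩ := hnorm' h hh x
      refine ⟨y, ?_⟩
      change (QuotientGroup.mk (K y) : GL (Fin 9) F ⧸ scalars (Fin 9) F) = QuotientGroup.mk (N * K x * N⁻¹)
      rw [hy]) (by
      intro x
      obtain ⟨y, hy⟩ := hnorm' h⁻¹ (H.inv_mem hh) x
      refine ⟨y, ?_⟩
      change (QuotientGroup.mk (K y) : GL (Fin 9) F ⧸ scalars (Fin 9) F) = QuotientGroup.mk (N⁻¹ * K x * N)
      rw [← hy]
      congr 1
      rw [hN]
      group)
    obtain ⟨b, ψ, hb, hψ, hψb, hs⟩ := exists_map_tr p (by norm_num : 2 ≤ 3) α ha hφ hφa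
    obtain ⟨a', φ', ha', hφ', hθa⟩ := hθ a φ ha hφ
    obtain ⟨b', ψ', hb', hψ', hθb⟩ := hθ b ψ hb hψ
    have hNN : ((N⁻¹ : GL (Fin 9) F) : Matrix (Fin 9) (Fin 9) F) * (N : Matrix (Fin 9) (Fin 9) F) = 1 := by
      rw [← Units.val_mul, inv_mul_cancel, Units.val_one]
    have key := core (a := a) (φ := φ) (a' := a') (φ' := φ') (b := b) (ψ := ψ) (b' := b') (ψ' := ψ')
      hNN τ hμ (one_ne_zero) hφ hφ' hb hψ hψb hb' hψ' (by
      intro t _
      obtain ⟨s, hs⟩ := hs t
      refine ⟨s, τ s, s * τ s, ?_⟩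
      have h1 := hα _ _ hs
      have h2 : N * K (tr (t • a) φ (by rw [dotProduct_smul, hφa, smul_zero])) * N⁻¹ =
          K (tr (s • b) ψ (by rw [dotProduct_smul, hψb, smul_zero])) := by
        apply eq_of_mk_eq p
        · rw [conj_pow, ← map_pow, tr_pow_char, map_one, mul_one, mul_inv_cancel]
        · rw [← map_pow, tr_pow_char, map_one]
        · exact h1
      have h3 : N * K (tr (t • a) φ (by rw [dotProduct_smul, hφa, smul_zero])) =
          K (tr (s • b) ψ (by rw [dotProduct_smul, hψb, smul_zero])) * N := by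
        rw [← h2, inv_mul_cancel_right]
      have h4 := congrArg (fun X : GL (Fin 9) F => (X : Matrix (Fin 9) (Fin 9) F)) h3
      simp only [Units.val_mul] at h4
      rw [hK, hK, coe_krGL, coe_krGL, hθa, hθb, coe_tr, coe_tr, smul_vecMulVec, smul_vecMulVec, kr_one_add,
        kr_one_add] at h4
      exact h4)
    rcases key.1 with h5 | h5
    · obtain ⟨z, hz⟩ := h5 v
      exact ⟨b, z, hz⟩
    · obtain ⟨z, hz⟩ := h5 v
      exact ⟨z, b', hz⟩
  have hle : H ≤ stabD Dec g ⊓ specialLinear (Fin 9) F := le_inf (le_stabD hdec) hH.1.le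
  rcases hH.2 _ hle inf_le_right with hM | hM
  · -- `SL₃ ⊗ 1 ≤ H`
    have hX : ∀ y : SpecialLinearGroup (Fin 3) F, g * krGL y 1 * g⁻¹ ∈ H := by
      intro y
      rw [← hM]
      refine ⟨?_, ?_⟩
      · have h1 : (krHom (MonoidHom.id (SpecialLinearGroup (Fin 3) F)) 1).range.map (MulAut.conj g).toMonoidHom ≤
            stabD Dec g := by
          apply le_stabD
          rintro _ ⟨_, ⟨y, rfl⟩, rfl⟩ _ ⟨u, v, rfl⟩
          refine ⟨y.1 *ᵥ u, v, ?_⟩
          have : g⁻¹ * ((MulAut.conj g).toMonoidHom (krHom (MonoidHom.id _) 1 y)) * g = krGL y 1 := by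
            change g⁻¹ * (g * krGL y 1 * g⁻¹) * g = _
            group
          rw [this, coe_krGL, kr_mulVec_ten]
          congr 1
          exact Matrix.one_mulVec v
        exact h1 ⟨_, ⟨y, rfl⟩, rfl⟩
      · apply det_conj_eq
        rw [coe_krGL, det_kr, y.2, one_pow, one_mul]
        have : ((1 : SpecialLinearGroup (Fin 3) F)).1.det = 1 := (1 : SpecialLinearGroup (Fin 3) F).2
        rw [this, one_pow]
    obtain ⟨x, y, hxy⟩ := exists_noncomm (F := F)
    obtain ⟨z, hz⟩ := hnorm' _ (hX y) x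
    have h1 : krGL (y * x * y⁻¹) (θ x) = krGL z (θ z) := by
      rw [hK, hK] at hz
      rw [← hz]
      have e : g⁻¹ * (g * krGL y 1 * g⁻¹) * g = krGL y 1 := by group
      have e2 : (krGL y 1 : GL (Fin 9) F)⁻¹ = krGL y⁻¹ 1 := by
        rw [inv_eq_iff_mul_eq_one, ← krGL_mul, mul_inv_cancel, mul_one, krGL_one]
      rw [e, e2, ← krGL_mul, ← krGL_mul, one_mul, mul_one]
    obtain ⟨c, hc⟩ := contra (x := x) (y := y) (z := z) (θx := θ x) (θz := θ z) (by
      intro h
      rw [← map_inv, ← map_mul] at h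
      rw [Subgroup.mem_center_iff] at h ⊢
      intro w
      apply θ.injective
      rw [map_mul, h, ← map_mul]) h1
    exact hxy c hc
  · -- `M = SL₉`
    let m : GL (Fin 9) F := Matrix.GeneralLinearGroup.mkOfDetNeZero (Matrix.diagonal (dd μ)) (by
      rw [dd_det hμ0]; exact one_ne_zero)
    have hm : (m : Matrix (Fin 9) (Fin 9) F) = Matrix.diagonal (dd μ) := rfl
    have h1 : g * m * g⁻¹ ∈ stabD Dec g ⊓ specialLinear (Fin 9) F := by
      rw [hM]
      apply det_conj_eq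
      rw [hm, dd_det hμ0]
    have h2 := (mem_stabD.1 h1.1 (ten 1 1)).1 ⟨1, 1, rfl⟩
    have e : g⁻¹ * (g * m * g⁻¹) * g = m := by group
    rw [e, hm] at h2
    obtain ⟨u, v, huv⟩ := h2
    exact not_dec hμ1 one_ne_zero one_ne_zero one_ne_zero one_ne_zero (dd_00 μ) (dd_01 μ) (dd_10 μ) (dd_11 μ) u v huv

/-- `x ↦ x^τ` on `SL₃` -/
def thA (τ : F ≃+* F) : SpecialLinearGroup (Fin 3) F ≃* SpecialLinearGroup (Fin 3) F where
  toFun x := ⟨x.1.map τ, by
    have := (RingHom.map_det (τ : F →+* F) x.1)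
    rw [x.2, map_one] at this
    exact this.symm⟩
  invFun x := ⟨x.1.map τ.symm, by
    have := (RingHom.map_det (τ.symm : F →+* F) x.1)
    rw [x.2, map_one] at this
    exact this.symm⟩
  left_inv x := by
    apply Subtype.ext
    ext i j
    simp [Matrix.map_apply]
  right_inv x := by
    apply Subtype.ext
    ext i j
    simp [Matrix.map_apply]
  map_mul' x y := by
    apply Subtype.ext
    exact Matrix.map_mul (f := (τ : F →+* F))

theorem thA_val (τ : F ≃+* F) (x : SpecialLinearGroup (Fin 3) F) : (thA τ x).1 = x.1.map τ := rfl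

theorem transpose_mul' (x y : SpecialLinearGroup (Fin 3) F) :
    (x * y).transpose = y.transpose * x.transpose := by
  apply Subtype.ext
  exact Matrix.transpose_mul _ _

theorem transpose_one' : (1 : SpecialLinearGroup (Fin 3) F).transpose = 1 := by
  apply Subtype.ext
  exact Matrix.transpose_one

theorem transpose_inv' (x : SpecialLinearGroup (Fin 3) F) : (x⁻¹).transpose = (x.transpose)⁻¹ := by
  rw [eq_inv_iff_mul_eq_one, ← transpose_mul', mul_inv_cancel, transpose_one']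

theorem transpose_transpose' (x : SpecialLinearGroup (Fin 3) F) : x.transpose.transpose = x := rfl

/-- inverse transpose -/
def itr (F : Type*) [Field F] : SpecialLinearGroup (Fin 3) F ≃* SpecialLinearGroup (Fin 3) F where
  toFun x := (x⁻¹).transpose
  invFun x := (x⁻¹).transpose
  left_inv x := by
    change (((x⁻¹).transpose)⁻¹).transpose = x
    rw [transpose_inv' x, inv_inv, transpose_transpose']
  right_inv x := by
    change (((x⁻¹).transpose)⁻¹).transpose = x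
    rw [transpose_inv' x, inv_inv, transpose_transpose']
  map_mul' x y := by
    rw [_root_.mul_inv_rev, transpose_mul']

/-- `x ↦ x^{-τT}` on `SL₃` -/
def thB (τ : F ≃+* F) : SpecialLinearGroup (Fin 3) F ≃* SpecialLinearGroup (Fin 3) F :=
  (itr F).trans (thA τ)

theorem thB_val (τ : F ≃+* F) (x : SpecialLinearGroup (Fin 3) F) : (thB τ x).1 = ((x⁻¹).1.map τ)ᵀ := rfl

theorem fun_ne_zero (τ : F ≃+* F) {a : Fin 3 → F} (ha : a ≠ 0) : (fun i => τ (a i)) ≠ 0 := by
  intro h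
  apply ha
  funext i
  exact (map_eq_zero τ).1 (congrFun h i)

theorem coe_tr_inv (a φ : Fin 3 → F) (h : φ ⬝ᵥ a = 0) : ((tr a φ h)⁻¹).1 = 1 - vecMulVec a φ := by
  have h1 : tr a φ h * tr (-a) φ (by rw [dotProduct_neg, h, neg_zero]) = 1 := by
    apply Subtype.ext
    change (1 + vecMulVec a φ) * (1 + vecMulVec (-a) φ) = 1
    rw [Matrix.mul_add, Matrix.mul_one, Matrix.add_mul, Matrix.one_mul, vecMulVec_mul_vecMulVec, neg_vecMulVec,
      dotProduct_neg, h, neg_zero, zero_smul]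
    have : vecMulVec a (0 : Fin 3 → F) = 0 := by
      ext i j
      simp [vecMulVec_apply]
    rw [this]
    abel
  rw [inv_eq_of_mul_eq_one_right h1]
  change 1 + vecMulVec (-a) φ = _
  rw [neg_vecMulVec]
  abel

/-- **(K3a)** -/
theorem k3a [Fintype F] {H P : Subgroup (GL (Fin 9) F)} (hc : IsResidualCore H P) (τ : F ≃+* F)
    (g : GL (Fin 9) F) (hH : IsMaximalIn (specialLinear (Fin 9) F) H) (hτ : τ ≠ RingEquiv.refl F)
    (hP : ∀ y : GL (Fin 9) F, y ∈ P ↔ ∃ x : SpecialLinearGroup (Fin 3) F, (y : Matrix (Fin 9) (Fin 9) F) =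
      (g : Matrix (Fin 9) (Fin 9) F) * Cfsg.Agent.H920.Nine.kron9 x.1 (x.1.map τ) *
        ((g⁻¹ : GL (Fin 9) F) : Matrix (Fin 9) (Fin 9) F)) : False := by
  refine k3_sl hc.normal hH τ hτ g (thA τ) ?_ ?_
  · intro a φ ha hφ
    refine ⟨fun i => τ (a i), fun i => τ (φ i), fun_ne_zero τ ha, fun_ne_zero τ hφ, fun t h => ?_⟩
    rw [thA_val, coe_tr]
    ext i j
    simp only [Matrix.map_apply, Matrix.add_apply, vecMulVec_apply, Matrix.smul_apply, Pi.smul_apply, smul_eq_mul,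
      map_add, map_mul, Matrix.one_apply]
    split_ifs
    · rw [map_one]; ring
    · rw [map_zero]; ring
  · intro y
    rw [hP]
    constructor
    · rintro ⟨x, hx⟩
      exact ⟨x, Units.ext hx⟩
    · rintro ⟨x, hx⟩
      exact ⟨x, congrArg (fun X : GL (Fin 9) F => (X : Matrix (Fin 9) (Fin 9) F)) hx⟩

/-- **(K3b)** -/
theorem k3b [Fintype F] {H P : Subgroup (GL (Fin 9) F)} (hc : IsResidualCore H P) (τ : F ≃+* F)
    (g : GL (Fin 9) F) (hH : IsMaximalIn (specialLinear (Fin 9) F) H) (hτ : τ ≠ RingEquiv.refl F)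
    (hP : ∀ y : GL (Fin 9) F, y ∈ P ↔ ∃ x : SpecialLinearGroup (Fin 3) F, (y : Matrix (Fin 9) (Fin 9) F) =
      (g : Matrix (Fin 9) (Fin 9) F) * Cfsg.Agent.H920.Nine.kron9 x.1 (((x⁻¹).1.map τ)ᵀ) *
        ((g⁻¹ : GL (Fin 9) F) : Matrix (Fin 9) (Fin 9) F)) : False := by
  refine k3_sl hc.normal hH τ hτ g (thB τ) ?_ ?_
  · intro a φ ha hφ
    refine ⟨fun i => - τ (φ i), fun i => τ (a i), ?_, fun_ne_zero τ ha, fun t h => ?_⟩
    · intro h0
      apply fun_ne_zero τ hφ
      funext i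
      exact neg_eq_zero.1 (congrFun h0 i)
    rw [thB_val, coe_tr_inv]
    ext i j
    simp only [Matrix.map_apply, Matrix.add_apply, Matrix.sub_apply, Matrix.transpose_apply, vecMulVec_apply,
      Matrix.smul_apply, Pi.smul_apply, smul_eq_mul, map_sub, map_mul, Matrix.one_apply]
    by_cases hij : i = j
    · subst hij
      rw [if_pos rfl, map_one]; ring
    · rw [if_neg hij, if_neg (Ne.symm hij), map_zero]; ring
  · intro y
    rw [hP]
    constructor
    · rintro ⟨x, hx⟩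
      exact ⟨x, Units.ext hx⟩
    · rintro ⟨x, hx⟩
      exact ⟨x, congrArg (fun X : GL (Fin 9) F => (X : Matrix (Fin 9) (Fin 9) F)) hx⟩

end Cfsg.Agent.H108.Nine
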