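import Cfsg.Agent.H108.Nine.Un
import Cfsg.Agent.H108.Nine.SL

/-!
`SU₉(q)`: the group `{x ⊗ x^τ}`, `x ∈ SU₃(q)`, is not the residual core of a maximal subgroup.
-/

set_option autoImplicit false
set_option linter.unusedSectionVars false

namespace Cfsg.Agent.H108.Nine

open Matrix Cfsg Cfsg.Geo
open Cfsg.Agent.LieClassical.HermBasic Cfsg.Agent.LieClassical.HermSiegel
open Cfsg.Agent.ClassicalGeometry.PSUAutBasic (transv act_transv transvG exists_scalar_of_mem_center mem_center_of_act)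
open Cfsg.Agent.ClassicalGeometry.PSUAutSylow (RR mem_RR exists_map_RR)

variable {F : Type*} [Field F] [Fintype F] {q : ℕ}

/-- decomposable tensors with an isotropic factor -/
def DecI (q : ℕ) (w : Fin 9 → F) : Prop :=
  ∃ u v : Fin 3 → F, w = ten u v ∧ (hermForm 3 F q u u = 0 ∨ hermForm 3 F q v v = 0)

theorem mem_GU_of_un (hF : Fintype.card F = q ^ 2) {m : GL (Fin 9) F}
    (hm : (m : Matrix (Fin 9) (Fin 9) F)ᵀ * (m : Matrix (Fin 9) (Fin 9) F).map (sg hF) = 1) : m ∈ GU 9 F q :=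
  (un_iff hF _).2 hm

theorem un_of_mem_GU (hF : Fintype.card F = q ^ 2) {m : GL (Fin 9) F} (hm : m ∈ GU 9 F q) :
    (m : Matrix (Fin 9) (Fin 9) F)ᵀ * (m : Matrix (Fin 9) (Fin 9) F).map (sg hF) = 1 :=
  (un_iff hF _).1 hm

/-- conjugation by a similitude preserves the unitary group -/
theorem conj_mem_GU (hF : Fintype.card F = q ^ 2) {g m : GL (Fin 9) F} {κ : F}
    (hg : (g : Matrix (Fin 9) (Fin 9) F)ᵀ * (g : Matrix (Fin 9) (Fin 9) F).map (sg hF) = κ • 1)
    (hm : m ∈ GU 9 F q) : g * m * g⁻¹ ∈ GU 9 F q := by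
  have hherm : ∀ u v, hermForm 9 F q ((g : Matrix (Fin 9) (Fin 9) F) *ᵥ u) ((g : Matrix (Fin 9) (Fin 9) F) *ᵥ v) =
      κ * hermForm 9 F q u v := by
    intro u v
    rw [herm_mulVec hF, hg, Matrix.smul_mulVec, Matrix.one_mulVec, dotProduct_smul, smul_eq_mul, herm_eq hF]
  have hginv : ∀ u, (g : Matrix (Fin 9) (Fin 9) F) *ᵥ (((g⁻¹ : GL (Fin 9) F) : Matrix (Fin 9) (Fin 9) F) *ᵥ u) = u := by
    intro u
    rw [Matrix.mulVec_mulVec, ← Units.val_mul, mul_inv_cancel, Units.val_one, Matrix.one_mulVec]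
  intro u v
  change hermForm 9 F q (((g * m * g⁻¹ : GL (Fin 9) F) : Matrix (Fin 9) (Fin 9) F) *ᵥ u)
    (((g * m * g⁻¹ : GL (Fin 9) F) : Matrix (Fin 9) (Fin 9) F) *ᵥ v) = hermForm 9 F q u v
  rw [Units.val_mul, Units.val_mul, ← Matrix.mulVec_mulVec, ← Matrix.mulVec_mulVec, ← Matrix.mulVec_mulVec,
    ← Matrix.mulVec_mulVec, hherm]
  have h1 : hermForm 9 F q ((m : Matrix (Fin 9) (Fin 9) F) *ᵥ (((g⁻¹ : GL (Fin 9) F) : Matrix (Fin 9) (Fin 9) F) *ᵥ u))
      ((m : Matrix (Fin 9) (Fin 9) F) *ᵥ (((g⁻¹ : GL (Fin 9) F) : Matrix (Fin 9) (Fin 9) F) *ᵥ v)) =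
      hermForm 9 F q (((g⁻¹ : GL (Fin 9) F) : Matrix (Fin 9) (Fin 9) F) *ᵥ u)
        (((g⁻¹ : GL (Fin 9) F) : Matrix (Fin 9) (Fin 9) F) *ᵥ v) := hm _ _
  rw [h1, ← hherm, hginv, hginv]

theorem coe_transv (hF : Fintype.card F = q ^ 2) {u : Fin 3 → F} (hu : hermForm 3 F q u u = 0) {μ : F}
    (hμ : μ + μ ^ q = 0) :
    ((transv hF u hu μ hμ : SU 3 F q) : SpecialLinearGroup (Fin 3) F).1 =
      1 + μ • vecMulVec u (fun j => u j ^ q) := by
  change siegelMat q u 0 μ = _
  unfold siegelMat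
  congr 1
  ext i j
  simp only [Matrix.add_apply, vecMulVec_apply, Pi.zero_apply, zero_mul, zero_add, Matrix.smul_apply, smul_eq_mul,
    zero_pow_q hF, sub_zero]
  ring

theorem dot_conj (u : Fin 3 → F) (hu : hermForm 3 F q u u = 0) : (fun j => u j ^ q) ⬝ᵥ u = 0 := by
  rw [dotProduct_comm]
  exact hu

theorem transv_pow (hF : Fintype.card F = q ^ 2) (p : ℕ) [CharP F p] {u : Fin 3 → F}
    (hu : hermForm 3 F q u u = 0) {μ : F} (hμ : μ + μ ^ q = 0) : transv hF u hu μ hμ ^ p = 1 := by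
  apply Subtype.ext
  apply Subtype.ext
  have h1 : ((transv hF u hu μ hμ ^ p : SU 3 F q) : SpecialLinearGroup (Fin 3) F).1 =
      ((transv hF u hu μ hμ : SU 3 F q) : SpecialLinearGroup (Fin 3) F).1 ^ p := by
    rw [SubmonoidClass.coe_pow, Matrix.SpecialLinearGroup.coe_pow]
  rw [h1, coe_transv, one_add_pow, CharP.cast_eq_zero, zero_smul, add_zero]
  · rfl
  · rw [Matrix.smul_mul, Matrix.mul_smul, vecMulVec_mul_vecMulVec, dot_conj u hu, zero_smul]
    ext i j
    simp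

/-- **(K3c)** -/
theorem k3c {H P : Subgroup (GL (Fin 9) F)} (hc : IsResidualCore H P) (τ : F ≃+* F)
    (g : GL (Fin 9) F) (q : ℕ) (hF : Fintype.card F = q ^ 2)
    (hH : IsMaximalIn (GU 9 F q ⊓ specialLinear (Fin 9) F) H) (hτ : τ ≠ RingEquiv.refl F)
    (hτ' : ¬ ∀ x, τ x = x ^ q)
    (hP : ∀ y : GL (Fin 9) F, y ∈ P ↔ ∃ x ∈ SU 3 F q, (y : Matrix (Fin 9) (Fin 9) F) =
      (g : Matrix (Fin 9) (Fin 9) F) * Cfsg.Agent.H920.Nine.kron9 x.1 (x.1.map τ) *
        ((g⁻¹ : GL (Fin 9) F) : Matrix (Fin 9) (Fin 9) F)) : False := by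
  classical
  obtain ⟨p, hp⟩ := CharP.exists F
  have hpf : Fact p.Prime := ⟨CharP.char_is_prime F p⟩
  have hnorm := hc.normal
  obtain ⟨μ, hμq, hμ⟩ := exists_fixed_ne hF τ hτ hτ'
  let β : SU 3 F q →* SpecialLinearGroup (Fin 3) F := (thA τ).toMonoidHom.comp (SU 3 F q).subtype
  let K : SU 3 F q →* GL (Fin 9) F := krHom (SU 3 F q).subtype β
  have hK : ∀ x, K x = krGL x.1 (thA τ x.1) := fun x => rfl
  have hP' : ∀ y : GL (Fin 9) F, y ∈ P ↔ ∃ x : SU 3 F q, y = g * K x * g⁻¹ := by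
    intro y
    rw [hP]
    constructor
    · rintro ⟨x, hx, hx'⟩
      exact ⟨⟨x, hx⟩, Units.ext hx'⟩
    · rintro ⟨⟨x, hx⟩, hx'⟩
      exact ⟨x, hx, congrArg (fun X : GL (Fin 9) F => (X : Matrix (Fin 9) (Fin 9) F)) hx'⟩
  have hsu : ∀ x : SU 3 F q, (x.1.1)ᵀ * (x.1.1).map (sg hF) = 1 := fun x =>
    (un_iff hF _).1 ((mem_SU_iff _).1 x.2)
  have hKun : ∀ x, (K x : Matrix (Fin 9) (Fin 9) F)ᵀ * (K x : Matrix (Fin 9) (Fin 9) F).map (sg hF) = 1 := by
    intro x
    rw [hK, coe_krGL, thA_val]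
    exact un_kr hF (hsu x) (un_map hF τ (hsu x))
  -- `g` is a similitude
  obtain ⟨κ, hκ⟩ : ∃ κ : F,
      (g : Matrix (Fin 9) (Fin 9) F)ᵀ * (g : Matrix (Fin 9) (Fin 9) F).map (sg hF) = κ • 1 := by
    set G : Matrix (Fin 9) (Fin 9) F := (g : Matrix (Fin 9) (Fin 9) F) with hG
    set G' : Matrix (Fin 9) (Fin 9) F := ((g⁻¹ : GL (Fin 9) F) : Matrix (Fin 9) (Fin 9) F) with hG'
    have hGG : G * G' = 1 := by rw [hG, hG', ← Units.val_mul, mul_inv_cancel, Units.val_one]
    have hGG' : G' * G = 1 := by rw [hG, hG', ← Units.val_mul, inv_mul_cancel, Units.val_one]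
    set Z : Matrix (Fin 9) (Fin 9) F := Gᵀ * G.map (sg hF) with hZ
    -- `Z` commutes with `K̄`
    have h1 : ∀ x, (K x : Matrix (Fin 9) (Fin 9) F)ᵀ * Z * (K x : Matrix (Fin 9) (Fin 9) F).map (sg hF) = Z := by
      intro x
      have hy : g * K x * g⁻¹ ∈ GU 9 F q := (hH.1.le (hc.le ((hP' _).2 ⟨x, rfl⟩))).1
      have h2 := un_of_mem_GU hF hy
      rw [Units.val_mul, Units.val_mul, ← hG, ← hG'] at h2
      rw [Matrix.transpose_mul, Matrix.transpose_mul, Matrix.map_mul, Matrix.map_mul] at h2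
      have h3 : (G')ᵀ * ((K x : Matrix (Fin 9) (Fin 9) F)ᵀ * Z * (K x : Matrix (Fin 9) (Fin 9) F).map (sg hF)) *
          G'.map (sg hF) = 1 := by
        rw [← h2, hZ]
        simp only [Matrix.mul_assoc]
      have h4 : Gᵀ * (G')ᵀ = 1 := by rw [← Matrix.transpose_mul, hGG', Matrix.transpose_one]
      have h5 : G'.map (sg hF) * G.map (sg hF) = 1 := by
        rw [← Matrix.map_mul, hGG']
        exact Matrix.map_one _ (map_zero _) (map_one _)
      calc (K x : Matrix (Fin 9) (Fin 9) F)ᵀ * Z * (K x : Matrix (Fin 9) (Fin 9) F).map (sg hF)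
          = Gᵀ * ((G')ᵀ * ((K x : Matrix (Fin 9) (Fin 9) F)ᵀ * Z * (K x : Matrix (Fin 9) (Fin 9) F).map (sg hF)) *
          G'.map (sg hF)) * G.map (sg hF) := by
            simp only [Matrix.mul_assoc]
            rw [h5, Matrix.mul_one, ← Matrix.mul_assoc Gᵀ, h4, Matrix.one_mul]
        _ = Z := by rw [h3, Matrix.mul_one, hZ]
    have h2 : ∀ x, Z.map (sg hF) * (K x : Matrix (Fin 9) (Fin 9) F) =
        (K x : Matrix (Fin 9) (Fin 9) F) * Z.map (sg hF) := by
      intro x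
      have h3 : (K x : Matrix (Fin 9) (Fin 9) F).map (sg hF) * (K x : Matrix (Fin 9) (Fin 9) F)ᵀ = 1 :=
        mul_eq_one_comm.1 (hKun x)
      have h4 : Z * (K x : Matrix (Fin 9) (Fin 9) F).map (sg hF) =
          (K x : Matrix (Fin 9) (Fin 9) F).map (sg hF) * Z := by
        calc Z * (K x : Matrix (Fin 9) (Fin 9) F).map (sg hF)
            = ((K x : Matrix (Fin 9) (Fin 9) F).map (sg hF) * (K x : Matrix (Fin 9) (Fin 9) F)ᵀ) * Z *
              (K x : Matrix (Fin 9) (Fin 9) F).map (sg hF) := by rw [h3, Matrix.one_mul]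
          _ = (K x : Matrix (Fin 9) (Fin 9) F).map (sg hF) *
              ((K x : Matrix (Fin 9) (Fin 9) F)ᵀ * Z * (K x : Matrix (Fin 9) (Fin 9) F).map (sg hF)) := by
              simp only [Matrix.mul_assoc]
          _ = _ := by rw [h1]
      have h5 := congrArg (fun X : Matrix (Fin 9) (Fin 9) F => X.map (sg hF)) h4
      simp only [Matrix.map_mul] at h5
      rw [map_map_sg] at h5
      exact h5
    obtain ⟨c, hc'⟩ := hc.absIrred.2 (G * Z.map (sg hF) * G') (by
      rintro _ ⟨y, hy, rfl⟩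
      obtain ⟨x, rfl⟩ := (hP' y).1 hy
      change G * Z.map (sg hF) * G' * ((g * K x * g⁻¹ : GL (Fin 9) F) : Matrix (Fin 9) (Fin 9) F) =
        ((g * K x * g⁻¹ : GL (Fin 9) F) : Matrix (Fin 9) (Fin 9) F) * (G * Z.map (sg hF) * G')
      rw [Units.val_mul, Units.val_mul, ← hG, ← hG']
      calc G * Z.map (sg hF) * G' * (G * (K x : Matrix (Fin 9) (Fin 9) F) * G')
          = G * (Z.map (sg hF) * ((G' * G) * (K x : Matrix (Fin 9) (Fin 9) F))) * G' := by
            simp only [Matrix.mul_assoc]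
        _ = G * ((K x : Matrix (Fin 9) (Fin 9) F) * Z.map (sg hF)) * G' := by
            rw [hGG', Matrix.one_mul, h2]
        _ = G * (K x : Matrix (Fin 9) (Fin 9) F) * ((G' * G) * Z.map (sg hF)) * G' := by
            rw [hGG', Matrix.one_mul]; simp only [Matrix.mul_assoc]
        _ = _ := by simp only [Matrix.mul_assoc])
    have h6 : Z.map (sg hF) = c • 1 := by
      calc Z.map (sg hF) = (G' * G) * Z.map (sg hF) * (G' * G) := by rw [hGG', Matrix.one_mul, Matrix.mul_one]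
        _ = G' * (G * Z.map (sg hF) * G') * G := by simp only [Matrix.mul_assoc]
        _ = _ := by rw [hc', Matrix.mul_smul, Matrix.smul_mul, Matrix.mul_one, hGG']
    have h7 : Z = (sg hF c) • 1 := by
      rw [← map_map_sg hF Z, h6]
      ext i j
      simp only [Matrix.map_apply, Matrix.smul_apply, smul_eq_mul, map_mul, Matrix.one_apply]
      split_ifs <;> simp
    exact ⟨sg hF c, h7⟩
  have hnorm' : ∀ h ∈ H, ∀ x, ∃ y, (g⁻¹ * h * g) * K x * (g⁻¹ * h * g)⁻¹ = K y := by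
    intro h hh x
    obtain ⟨y, hy⟩ := (hP' _).1 (hnorm h hh (g * K x * g⁻¹) ((hP' _).2 ⟨x, rfl⟩))
    refine ⟨y, ?_⟩
    have : K y = g⁻¹ * (g * K y * g⁻¹) * g := by group
    rw [this, ← hy]
    group
  let Ψ : SU 3 F q →* (GL (Fin 9) F ⧸ scalars (Fin 9) F) := (QuotientGroup.mk' _).comp K
  have hker : Ψ.ker = Subgroup.center (SU 3 F q) := by
    ext x
    have e : x ∈ Ψ.ker ↔ krGL x.1 (thA τ x.1) ∈ scalars (Fin 9) F := by
      rw [MonoidHom.mem_ker]
      exact QuotientGroup.eq_one_iff _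
    rw [e]
    constructor
    · intro h
      have h1 := (scalar_of_krGL h).1
      rw [Subgroup.mem_center_iff] at h1 ⊢
      intro y
      exact Subtype.ext (h1 y.1)
    · intro h
      obtain ⟨c, hc0, -, hc2⟩ := exists_scalar_of_mem_center hF (le_refl 3) h
      have h1 : x.1 ∈ Subgroup.center (SpecialLinearGroup (Fin 3) F) := by
        have h2 : x.1.1 = c • 1 := by
          apply Matrix.mulVec_injective
          funext v
          rw [Matrix.smul_mulVec, Matrix.one_mulVec]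
          exact hc2 v
        rw [Subgroup.mem_center_iff]
        intro w
        apply Subtype.ext
        rw [Matrix.SpecialLinearGroup.coe_mul, Matrix.SpecialLinearGroup.coe_mul, h2, Matrix.smul_mul,
          Matrix.mul_smul, Matrix.one_mul, Matrix.mul_one]
      apply krGL_mem_scalars h1
      rw [Subgroup.mem_center_iff] at h1 ⊢
      intro z
      obtain ⟨z, rfl⟩ := (thA τ).surjective z
      rw [← map_mul, h1, map_mul]
  obtain ⟨t0, ht0, ht0'⟩ := exists_trace_zero_ne hF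
  -- the basic step
  have hstep : ∀ h ∈ H, ∀ a : Fin 3 → F, a ≠ 0 → hermForm 3 F q a a = 0 → ∀ v : Fin 3 → F,
      DecI q (((g⁻¹ * h * g : GL (Fin 9) F) : Matrix (Fin 9) (Fin 9) F) *ᵥ ten a v) ∧
      DecI q (((g⁻¹ * h * g : GL (Fin 9) F) : Matrix (Fin 9) (Fin 9) F) *ᵥ ten v (fun i => τ (a i))) := by
    intro h hh a ha haa v
    set N : GL (Fin 9) F := g⁻¹ * h * g with hN
    obtain ⟨α, hα⟩ := aut_of_conj Ψ (Subgroup.center _) hker (QuotientGroup.mk N) (by
      intro x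
      obtain ⟨y, hy⟩ := hnorm' h hh x
      refine ⟨y, ?_⟩
      change (QuotientGroup.mk (K y) : GL (Fin 9) F ⧸ scalars (Fin 9) F) = QuotientGroup.mk (N * K x * N⁻¹)
      rw [hy]) (by
      intro x
      obtain ⟨y, hy⟩ := hnorm' h⁻¹ (H.inv_mem hh) x
      refine ⟨y, ?_⟩
      change (QuotientGroup.mk (K y) : GL (Fin 9) F ⧸ scalars (Fin 9) F) = QuotientGroup.mk (N⁻¹ * K x * N)
      rw [← hy]
      congr 1
      rw [hN]
      group)
    obtain ⟨b, hb, hbb, hmap⟩ := exists_map_RR hF (le_refl 3) α ha haa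
    have hNN : ((N⁻¹ : GL (Fin 9) F) : Matrix (Fin 9) (Fin 9) F) * (N : Matrix (Fin 9) (Fin 9) F) = 1 := by
      rw [← Units.val_mul, inv_mul_cancel, Units.val_one]
    have hconj : ∀ {c : Fin 3 → F}, c ≠ 0 → (fun j => c j ^ q) ≠ 0 := by
      intro c hc0 h0
      apply hc0
      funext j
      exact (pow_q_eq_zero hF).1 (congrFun h0 j)
    have hmapE : ∀ c : Fin 3 → F, (vecMulVec c (fun j => c j ^ q)).map τ =
        vecMulVec (fun i => τ (c i)) (fun j => τ (c j ^ q)) := by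
      intro c
      ext i j
      simp only [Matrix.map_apply, vecMulVec_apply, map_mul]
    have hthA : ∀ {c : Fin 3 → F} (hcc : hermForm 3 F q c c = 0) {t : F} (ht : t + t ^ q = 0),
        (thA τ (transv hF c hcc t ht).1).1 = 1 + τ t • vecMulVec (fun i => τ (c i)) (fun j => τ (c j ^ q)) := by
      intro c hcc t ht
      rw [thA_val, coe_transv hF hcc ht, ← hmapE]
      ext i j
      simp only [Matrix.map_apply, Matrix.add_apply, Matrix.smul_apply, smul_eq_mul, map_add, map_mul,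
        Matrix.one_apply]
      split_ifs
      · rw [map_one]
      · rw [map_zero]
    have key := core (a := a) (φ := fun j => a j ^ q) (a' := fun i => τ (a i)) (φ' := fun j => τ (a j ^ q))
      (b := b) (ψ := fun j => b j ^ q) (b' := fun i => τ (b i)) (ψ' := fun j => τ (b j ^ q))
      hNN τ hμ ht0 (hconj ha) (fun_ne_zero τ (hconj ha)) hb (hconj hb) (dot_conj b hbb) (fun_ne_zero τ hb)
      (fun_ne_zero τ (hconj hb)) (by
      intro t ht
      have htt : t + t ^ q = 0 := by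
        rcases ht with rfl | rfl | rfl
        · exact ht0'
        · rw [mul_pow, hμq, ← mul_add, ht0', mul_zero]
        · rw [mul_pow, mul_pow, hμq, ← mul_add, ← mul_add, ht0', mul_zero, mul_zero]
      have h1 : α (Cfsg.Agent.ClassicalGeometry.PSUAutBasic.pr 3 F q (transv hF a haa t htt)) ∈ RR hF b hbb := by
        rw [← hmap]
        exact ⟨_, mem_RR.2 ⟨t, htt, rfl⟩, rfl⟩
      obtain ⟨s, hs, hs'⟩ := mem_RR.1 h1
      refine ⟨s, τ s, s * τ s, ?_⟩
      have h2 := hα _ _ hs'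
      have h3 : N * K (transv hF a haa t htt) * N⁻¹ = K (transv hF b hbb s hs) := by
        apply eq_of_mk_eq p
        · rw [conj_pow, ← map_pow, transv_pow hF p haa htt, map_one, mul_one, mul_inv_cancel]
        · rw [← map_pow, transv_pow hF p hbb hs, map_one]
        · exact h2
      have h4 : N * K (transv hF a haa t htt) = K (transv hF b hbb s hs) * N := by
        rw [← h3, inv_mul_cancel_right]
      have h5 := congrArg (fun X : GL (Fin 9) F => (X : Matrix (Fin 9) (Fin 9) F)) h4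
      simp only [Units.val_mul] at h5
      rw [hK, hK, coe_krGL, coe_krGL, hthA, hthA, coe_transv, coe_transv, kr_one_add, kr_one_add] at h5
      exact h5)
    have hb' : hermForm 3 F q (fun i => τ (b i)) (fun i => τ (b i)) = 0 := by
      rw [herm_map_eq, hbb, map_zero]
    constructor
    · rcases key.1 with h5 | h5
      · obtain ⟨z, hz⟩ := h5 v
        exact ⟨b, z, hz, Or.inl hbb⟩
      · obtain ⟨z, hz⟩ := h5 v
        exact ⟨z, _, hz, Or.inr hb'⟩
    · rcases key.2 with h5 | h5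
      · obtain ⟨z, hz⟩ := h5 v
        exact ⟨b, z, hz, Or.inl hbb⟩
      · obtain ⟨z, hz⟩ := h5 v
        exact ⟨z, _, hz, Or.inr hb'⟩
  have hzero : ∀ v : Fin 3 → F, ten (0 : Fin 3 → F) v = 0 := by
    intro v
    have := ten_smul_left 0 (0 : Fin 3 → F) v
    rwa [zero_smul, zero_smul] at this
  have hzero' : ∀ v : Fin 3 → F, ten v (0 : Fin 3 → F) = 0 := by
    intro v
    have := ten_smul_right 0 v (0 : Fin 3 → F)
    rwa [zero_smul, zero_smul] at this
  have hherm0 : hermForm 3 F q (0 : Fin 3 → F) 0 = 0 := herm_zero_left 0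
  have hdec : ∀ h ∈ H, ∀ w, DecI q w →
      DecI q (((g⁻¹ * h * g : GL (Fin 9) F) : Matrix (Fin 9) (Fin 9) F) *ᵥ w) := by
    rintro h hh _ ⟨u, v, rfl, huv | huv⟩
    · by_cases hu : u = 0
      · subst hu
        rw [hzero, Matrix.mulVec_zero]
        exact ⟨0, 0, (hzero 0).symm, Or.inl hherm0⟩
      · exact (hstep h hh u hu huv v).1
    · by_cases hv : v = 0
      · subst hv
        rw [hzero', Matrix.mulVec_zero]
        exact ⟨0, 0, (hzero 0).symm, Or.inl hherm0⟩
      · have h1 : (fun i => τ (τ.symm (v i))) = v := by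
          funext i
          exact τ.apply_symm_apply _
        have h2 := (hstep h hh (fun i => τ.symm (v i)) (fun_ne_zero τ.symm hv) (by
          rw [herm_map_eq, huv, map_zero]) u).2
        rw [h1] at h2
        exact h2
  have hle : H ≤ stabD (DecI q) g ⊓ (GU 9 F q ⊓ specialLinear (Fin 9) F) := le_inf (le_stabD hdec) hH.1.le
  rcases hH.2 _ hle inf_le_right with hM | hM
  · -- `SU₃ ⊗ 1 ≤ H`
    have hX : ∀ y ∈ SU 3 F q, g * krGL y 1 * g⁻¹ ∈ H := by
      intro y hy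
      rw [← hM]
      refine ⟨?_, ?_, ?_⟩
      · have h1 : (krHom (SU 3 F q).subtype 1).range.map (MulAut.conj g).toMonoidHom ≤ stabD (DecI q) g := by
          apply le_stabD
          rintro _ ⟨_, ⟨y, rfl⟩, rfl⟩ _ ⟨u, v, rfl, huv⟩
          refine ⟨y.1.1 *ᵥ u, v, ?_, ?_⟩
          · have : g⁻¹ * ((MulAut.conj g).toMonoidHom (krHom (SU 3 F q).subtype 1 y)) * g = krGL y.1 1 := by
              change g⁻¹ * (g * krGL y.1 1 * g⁻¹) * g = _
              group
            rw [this, coe_krGL, kr_mulVec_ten]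
            congr 1
            exact Matrix.one_mulVec v
          · rcases huv with h | h
            · left
              rw [(mem_SU_iff _).1 y.2, h]
            · right
              exact h
        exact h1 ⟨_, ⟨⟨y, hy⟩, rfl⟩, rfl⟩
      · apply conj_mem_GU hF hκ
        apply mem_GU_of_un hF
        rw [coe_krGL]
        refine un_kr hF (hsu ⟨y, hy⟩) ?_
        have h1 : (1 : SpecialLinearGroup (Fin 3) F) ∈ SU 3 F q := (SU 3 F q).one_mem
        exact hsu ⟨1, h1⟩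
      · apply det_conj_eq
        rw [coe_krGL, det_kr, y.2, one_pow, one_mul]
        have : ((1 : SpecialLinearGroup (Fin 3) F)).1.det = 1 := (1 : SpecialLinearGroup (Fin 3) F).2
        rw [this, one_pow]
    obtain ⟨x, y, hx, hy, hxy⟩ := exists_noncomm_su hF
    obtain ⟨z, hz⟩ := hnorm' _ (hX y hy) ⟨x, hx⟩
    have h1 : krGL (y * x * y⁻¹) (thA τ x) = krGL z.1 (thA τ z.1) := by
      rw [hK, hK] at hz
      rw [← hz]
      have e : g⁻¹ * (g * krGL y 1 * g⁻¹) * g = krGL y 1 := by group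
      have e2 : (krGL y 1 : GL (Fin 9) F)⁻¹ = krGL y⁻¹ 1 := by
        rw [inv_eq_iff_mul_eq_one, ← krGL_mul, mul_inv_cancel, mul_one, krGL_one]
      rw [e, e2, ← krGL_mul, ← krGL_mul, one_mul, mul_one]
    obtain ⟨c, hc'⟩ := contra (x := x) (y := y) (z := z.1) (θx := thA τ x) (θz := thA τ z.1) (by
      intro h
      rw [← map_inv, ← map_mul] at h
      rw [Subgroup.mem_center_iff] at h ⊢
      intro w
      apply (thA τ).injective
      rw [map_mul, h, ← map_mul]) h1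
    exact hxy c hc'
  · -- `M = SU₉`
    obtain ⟨ζ, hζ1, hζ0, hζn⟩ := exists_norm_one_ne hF
    obtain ⟨u, hu0, hu1, huu⟩ := exists_iso_vec hF
    let m : GL (Fin 9) F := Matrix.GeneralLinearGroup.mkOfDetNeZero (Matrix.diagonal (dd ζ)) (by
      rw [dd_det hζ0]; exact one_ne_zero)
    have hm : (m : Matrix (Fin 9) (Fin 9) F) = Matrix.diagonal (dd ζ) := rfl
    have hmGU : m ∈ GU 9 F q := by
      apply mem_GU_of_un hF
      rw [hm, Matrix.diagonal_transpose, Matrix.diagonal_map (map_zero _), Matrix.diagonal_mul_diagonal,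
        ← Matrix.diagonal_one]
      congr 1
      funext i
      change dd ζ i * (dd ζ i) ^ q = 1
      rw [← pow_succ']
      apply dd_pow
      rw [pow_succ', hζn]
    have h1 : g * m * g⁻¹ ∈ stabD (DecI q) g ⊓ (GU 9 F q ⊓ specialLinear (Fin 9) F) := by
      rw [hM]
      refine ⟨conj_mem_GU hF hκ hmGU, ?_⟩
      apply det_conj_eq
      rw [hm, dd_det hζ0]
    have h2 := (mem_stabD.1 h1.1 (ten u 1)).1 ⟨u, 1, rfl, Or.inl huu⟩
    have e : g⁻¹ * (g * m * g⁻¹) * g = m := by group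
    rw [e, hm] at h2
    obtain ⟨x, y, hxy, -⟩ := h2
    exact not_dec hζ1 hu0 hu1 one_ne_zero one_ne_zero (dd_00 ζ) (dd_01 ζ) (dd_10 ζ) (dd_11 ζ) x y hxy

end Cfsg.Agent.H108.Nine
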