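import Mathlib

/-!
Tensors of size `3 × 3` as vectors of length nine, and the images of root elements.
-/

set_option autoImplicit false
set_option linter.unusedSectionVars false

namespace Cfsg.Agent.H108.Nine

open Matrix
open scoped Kronecker

variable {F : Type*} [Field F]

/-- `a ⊗ b` as a `9 × 9` matrix (the same as `Cfsg.Agent.H920.Nine.kron9`) -/
def kr (a b : Matrix (Fin 3) (Fin 3) F) : Matrix (Fin 9) (Fin 9) F :=
  Matrix.reindex finProdFinEquiv finProdFinEquiv (a ⊗ₖ b)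

/-- `u ⊗ v` as a vector of length nine -/
def ten (u v : Fin 3 → F) : Fin 9 → F :=
  fun k => u ((finProdFinEquiv (m := 3) (n := 3)).symm k).1 * v ((finProdFinEquiv (m := 3) (n := 3)).symm k).2

/-- index of the pair -/
def ix (i j : Fin 3) : Fin 9 := (finProdFinEquiv (i, j) : Fin (3 * 3))

theorem ten_ix (u v : Fin 3 → F) (i j : Fin 3) : ten u v (ix i j) = u i * v j := by
  change u ((finProdFinEquiv (m := 3) (n := 3)).symm (finProdFinEquiv (i, j))).1 *
    v ((finProdFinEquiv (m := 3) (n := 3)).symm (finProdFinEquiv (i, j))).2 = _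
  rw [Equiv.symm_apply_apply]

theorem exists_ix (k : Fin 9) : ∃ i j : Fin 3, k = ix i j := by
  obtain ⟨⟨i, j⟩, h⟩ := (finProdFinEquiv (m := 3) (n := 3)).surjective k
  exact ⟨i, j, h.symm⟩

theorem ix_injective {i j k l : Fin 3} (h : ix i j = ix k l) : i = k ∧ j = l := by
  have := (finProdFinEquiv (m := 3) (n := 3)).injective h
  exact Prod.ext_iff.1 this

theorem ext_ix {z w : Fin 9 → F} (h : ∀ i j, z (ix i j) = w (ix i j)) : z = w := by
  funext k
  obtain ⟨i, j, rfl⟩ := exists_ix k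
  exact h i j

theorem kr_ix (a b : Matrix (Fin 3) (Fin 3) F) (i j k l : Fin 3) :
    kr a b (ix i j) (ix k l) = a i k * b j l := by
  unfold kr ix
  rw [Matrix.reindex_apply, Matrix.submatrix_apply, Equiv.symm_apply_apply, Equiv.symm_apply_apply]
  rfl

theorem sum_ix {M : Type*} [AddCommMonoid M] (f : Fin 9 → M) : ∑ k, f k = ∑ i, ∑ j, f (ix i j) := by
  rw [← Fintype.sum_prod_type']
  exact (Equiv.sum_comp (finProdFinEquiv (m := 3) (n := 3)) f).symm

theorem kr_mulVec_ix (a b : Matrix (Fin 3) (Fin 3) F) (z : Fin 9 → F) (i j : Fin 3) :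
    (kr a b *ᵥ z) (ix i j) = ∑ k, ∑ l, a i k * b j l * z (ix k l) := by
  rw [Matrix.mulVec, dotProduct, sum_ix]
  simp only [kr_ix]

theorem kr_mulVec_ten (a b : Matrix (Fin 3) (Fin 3) F) (u v : Fin 3 → F) :
    kr a b *ᵥ ten u v = ten (a *ᵥ u) (b *ᵥ v) := by
  apply ext_ix
  intro i j
  rw [kr_mulVec_ix, ten_ix, Matrix.mulVec, Matrix.mulVec, dotProduct, dotProduct, Finset.sum_mul_sum]
  refine Finset.sum_congr rfl fun k _ => Finset.sum_congr rfl fun l _ => ?_
  rw [ten_ix]
  ring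

theorem kr_mul (a b a' b' : Matrix (Fin 3) (Fin 3) F) : kr (a * a') (b * b') = kr a b * kr a' b' := by
  unfold kr
  rw [Matrix.mul_kronecker_mul, Matrix.reindex_apply, Matrix.reindex_apply, Matrix.reindex_apply,
    Matrix.submatrix_mul_equiv]

theorem kr_one : kr (1 : Matrix (Fin 3) (Fin 3) F) 1 = 1 := by
  unfold kr
  rw [Matrix.one_kronecker_one, Matrix.reindex_apply]
  exact Matrix.submatrix_one_equiv _

theorem mat_ext_ix {A B : Matrix (Fin 9) (Fin 9) F} (h : ∀ i j k l, A (ix i j) (ix k l) = B (ix i j) (ix k l)) :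
    A = B := by
  ext r s
  obtain ⟨i, j, rfl⟩ := exists_ix r
  obtain ⟨k, l, rfl⟩ := exists_ix s
  exact h i j k l

theorem kr_smul_left (c : F) (a b : Matrix (Fin 3) (Fin 3) F) : kr (c • a) b = c • kr a b := by
  apply mat_ext_ix
  intro i j k l
  rw [Matrix.smul_apply, kr_ix, kr_ix, Matrix.smul_apply, smul_eq_mul, smul_eq_mul]
  ring

theorem kr_smul_right (c : F) (a b : Matrix (Fin 3) (Fin 3) F) : kr a (c • b) = c • kr a b := by
  apply mat_ext_ix
  intro i j k l
  rw [Matrix.smul_apply, kr_ix, kr_ix, Matrix.smul_apply, smul_eq_mul, smul_eq_mul]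
  ring

theorem kr_add_left (a a' b : Matrix (Fin 3) (Fin 3) F) : kr (a + a') b = kr a b + kr a' b := by
  apply mat_ext_ix
  intro i j k l
  rw [Matrix.add_apply, kr_ix, kr_ix, kr_ix, Matrix.add_apply]
  ring

theorem kr_add_right (a b b' : Matrix (Fin 3) (Fin 3) F) : kr a (b + b') = kr a b + kr a b' := by
  apply mat_ext_ix
  intro i j k l
  rw [Matrix.add_apply, kr_ix, kr_ix, kr_ix, Matrix.add_apply]
  ring

theorem det_kr (a b : Matrix (Fin 3) (Fin 3) F) : (kr a b).det = a.det ^ 3 * b.det ^ 3 := by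
  unfold kr
  rw [Matrix.det_reindex_self, Matrix.det_kronecker]
  simp

theorem kr_trans (a b : Matrix (Fin 3) (Fin 3) F) : (kr a b)ᵀ = kr aᵀ bᵀ := by
  apply mat_ext_ix
  intro i j k l
  rw [Matrix.transpose_apply, kr_ix, kr_ix, Matrix.transpose_apply, Matrix.transpose_apply]

theorem kr_map (a b : Matrix (Fin 3) (Fin 3) F) (σ : F →+* F) : (kr a b).map σ = kr (a.map σ) (b.map σ) := by
  apply mat_ext_ix
  intro i j k l
  rw [Matrix.map_apply, kr_ix, kr_ix, Matrix.map_apply, Matrix.map_apply, map_mul]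

/-- `a ⊗ b` is a scalar only if `a` and `b` are. -/
theorem kr_eq {a b a' b' : Matrix (Fin 3) (Fin 3) F} (ha : a ≠ 0) (hb : b ≠ 0) (h : kr a b = kr a' b') :
    ∃ c : F, c ≠ 0 ∧ a' = c • a ∧ b' = c⁻¹ • b := by
  obtain ⟨i, k, hik⟩ : ∃ i k, a i k ≠ 0 := by
    by_contra h0
    push Not at h0
    exact ha (by ext i k; exact h0 i k)
  obtain ⟨j, l, hjl⟩ : ∃ j l, b j l ≠ 0 := by
    by_contra h0
    push Not at h0
    exact hb (by ext i k; exact h0 i k)
  have e : ∀ i j k l, a i k * b j l = a' i k * b' j l := by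
    intro i j k l
    rw [← kr_ix, ← kr_ix, h]
  have h1 : a' i k * b' j l ≠ 0 := by
    rw [← e]
    exact mul_ne_zero hik hjl
  have ha' : a' i k ≠ 0 := left_ne_zero_of_mul h1
  have hb' : b' j l ≠ 0 := right_ne_zero_of_mul h1
  refine ⟨b j l / b' j l, div_ne_zero hjl hb', ?_, ?_⟩
  · ext r s
    rw [Matrix.smul_apply, smul_eq_mul, div_mul_eq_mul_div, eq_div_iff hb']
    have := e r j s l
    linear_combination -this
  · ext r s
    rw [Matrix.smul_apply, smul_eq_mul, inv_div, div_mul_eq_mul_div, eq_div_iff hjl]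
    have h2 := e i r k s
    have h3 := e i j k l
    apply mul_left_cancel₀ hik
    apply mul_left_cancel₀ ha'
    linear_combination a' i k * b' r s * h3 - a' i k * b' j l * h2

end Cfsg.Agent.H108.Nine
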