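import Cfsg.Agent.H108.Nine.Common
import Cfsg.Agent.ClassicalGeometry.PSUAutSylow

/-!
Unitary matrices, similitudes.
-/

set_option autoImplicit false
set_option linter.unusedSectionVars false

namespace Cfsg.Agent.H108.Nine

open Matrix Cfsg Cfsg.Geo
open Cfsg.Agent.LieClassical.HermBasic

variable {F : Type*} [Field F] [Fintype F] {q : ℕ}

/-- the ring homomorphism `x ↦ x^q` -/
abbrev sg (hF : Fintype.card F = q ^ 2) : F →+* F := (conj hF : F →+* F)

theorem sg_apply (hF : Fintype.card F = q ^ 2) (x : F) : sg hF x = x ^ q := rfl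

theorem sg_sg (hF : Fintype.card F = q ^ 2) (x : F) : sg hF (sg hF x) = x := pow_q_pow_q hF x

theorem map_map_sg (hF : Fintype.card F = q ^ 2) {m n : Type*} (M : Matrix m n F) :
    (M.map (sg hF)).map (sg hF) = M := by
  ext i j
  exact sg_sg hF _

theorem herm_eq (hF : Fintype.card F = q ^ 2) {n : ℕ} (u v : Fin n → F) :
    hermForm n F q u v = u ⬝ᵥ (fun i => sg hF (v i)) := rfl

theorem herm_mulVec (hF : Fintype.card F = q ^ 2) {n : ℕ} (M : Matrix (Fin n) (Fin n) F) (u v : Fin n → F) :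
    hermForm n F q (M *ᵥ u) (M *ᵥ v) = u ⬝ᵥ ((Mᵀ * M.map (sg hF)) *ᵥ (fun i => sg hF (v i))) := by
  have e2 : (fun i => sg hF ((M *ᵥ v) i)) = M.map (sg hF) *ᵥ (fun i => sg hF (v i)) := by
    funext i
    rw [RingHom.map_mulVec]
    rfl
  rw [herm_eq hF, e2, ← Matrix.vecMul_transpose, ← Matrix.dotProduct_mulVec, Matrix.mulVec_mulVec]

/-- matrix criterion -/
theorem un_iff (hF : Fintype.card F = q ^ 2) {n : ℕ} (M : Matrix (Fin n) (Fin n) F) :
    (∀ u v, hermForm n F q (M *ᵥ u) (M *ᵥ v) = hermForm n F q u v) ↔ Mᵀ * M.map (sg hF) = 1 := by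
  constructor
  · intro h
    ext i j
    have h1 := h (Pi.single i 1) (Pi.single j 1)
    rw [herm_mulVec hF, herm_eq hF] at h1
    have e : (fun k => sg hF ((Pi.single j (1 : F) : Fin n → F) k)) = Pi.single j 1 := by
      funext k
      by_cases hk : k = j
      · subst hk
        rw [Pi.single_eq_same, map_one]
      · rw [Pi.single_eq_of_ne hk, map_zero]
    rw [e, single_one_dotProduct, single_one_dotProduct, Matrix.mulVec_single_one] at h1
    rw [Matrix.one_apply]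
    rw [Pi.single_apply] at h1
    exact h1
  · intro h u v
    rw [herm_mulVec hF, h, Matrix.one_mulVec, herm_eq hF]

theorem un_kr (hF : Fintype.card F = q ^ 2) {a b : Matrix (Fin 3) (Fin 3) F} (ha : aᵀ * a.map (sg hF) = 1)
    (hb : bᵀ * b.map (sg hF) = 1) : (kr a b)ᵀ * (kr a b).map (sg hF) = 1 := by
  rw [kr_trans, kr_map, ← kr_mul, ha, hb, kr_one]

theorem un_map (hF : Fintype.card F = q ^ 2) (τ : F ≃+* F) {a : Matrix (Fin 3) (Fin 3) F}
    (ha : aᵀ * a.map (sg hF) = 1) : (a.map τ)ᵀ * (a.map τ).map (sg hF) = 1 := by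
  have e : (a.map τ).map (sg hF) = (a.map (sg hF)).map τ := by
    ext i j
    simp only [Matrix.map_apply, sg_apply, map_pow]
  have e2 : (a.map τ)ᵀ = (aᵀ).map τ := rfl
  have e3 : (aᵀ).map τ * (a.map (sg hF)).map τ = (aᵀ * a.map (sg hF)).map τ :=
    (Matrix.map_mul (f := (τ : F →+* F))).symm
  rw [e, e2, e3, ha]
  exact Matrix.map_one _ (map_zero τ) (map_one τ)

theorem herm_map_eq (τ : F ≃+* F) (u v : Fin 3 → F) :
    hermForm 3 F q (fun i => τ (u i)) (fun i => τ (v i)) = τ (hermForm 3 F q u v) := by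
  unfold hermForm
  rw [map_sum]
  exact Finset.sum_congr rfl fun i _ => by rw [map_mul, map_pow]

/-- A field automorphism different from `1` and `x ↦ x^q` is non-trivial on the fixed field of `x ↦ x^q`. -/
theorem exists_fixed_ne (hF : Fintype.card F = q ^ 2) (τ : F ≃+* F) (hτ : τ ≠ RingEquiv.refl F)
    (hτ' : ¬ ∀ x, τ x = x ^ q) : ∃ μ : F, μ ^ q = μ ∧ τ μ ≠ μ := by
  by_contra hcon
  push Not at hcon
  have key : ∀ x : F, τ x = x ∨ τ x = x ^ q := by
    intro x
    have hs := hcon (x + x ^ q) (trace_pow_q hF x)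
    have hn := hcon (x * x ^ q) (norm_pow_q hF x)
    have h1 : (τ x - x) * (τ x - x ^ q) = 0 := by
      rw [map_add] at hs
      rw [map_mul] at hn
      linear_combination τ x * hs - hn
    rcases mul_eq_zero.1 h1 with h2 | h2
    · exact Or.inl (sub_eq_zero.1 h2)
    · exact Or.inr (sub_eq_zero.1 h2)
  obtain ⟨x, hx⟩ : ∃ x, τ x ≠ x := by
    by_contra h0
    push Not at h0
    exact hτ (RingEquiv.ext h0)
  push Not at hτ'
  obtain ⟨y, hy⟩ := hτ'
  have hx' := (key x).resolve_left hx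
  have hy' := (key y).resolve_right hy
  rcases key (x + y) with h | h
  · rw [map_add, hx', hy'] at h
    have : x ^ q = x := add_right_cancel h
    rw [this] at hx'
    exact hx hx'
  · rw [map_add, hx', hy', add_pow_q hF] at h
    have : y = y ^ q := add_left_cancel h
    rw [← this] at hy
    exact hy hy'

/-- an element of norm one different from one -/
theorem exists_norm_one_ne (hF : Fintype.card F = q ^ 2) : ∃ ζ : F, ζ ≠ 1 ∧ ζ ≠ 0 ∧ ζ * ζ ^ q = 1 := by
  obtain ⟨x, hx⟩ := exists_not_fixed hF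
  have hx0 : x ≠ 0 := by
    rintro rfl
    exact hx (zero_pow_q hF)
  have hxq : x ^ q ≠ 0 := pow_ne_zero _ hx0
  refine ⟨x ^ q * x⁻¹, ?_, mul_ne_zero hxq (inv_ne_zero hx0), ?_⟩
  · intro h
    rw [mul_inv_eq_one₀ hx0] at h
    exact hx h
  · rw [mul_pow, pow_q_pow_q hF, inv_pow]
    field_simp

/-- an isotropic vector with two non-zero entries -/
theorem exists_iso_vec (hF : Fintype.card F = q ^ 2) :
    ∃ u : Fin 3 → F, u 0 ≠ 0 ∧ u 1 ≠ 0 ∧ hermForm 3 F q u u = 0 := by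
  obtain ⟨s, hs⟩ := exists_norm_eq hF (c := -1) (by rw [neg_pow_q hF, one_pow])
  have hs0 : s ≠ 0 := by
    rintro rfl
    rw [zero_mul] at hs
    exact one_ne_zero (neg_eq_zero.1 hs.symm)
  refine ⟨![1, s, 0], by simp, by simpa using hs0, ?_⟩
  unfold hermForm
  rw [Fin.sum_univ_three]
  simp [hs]

/-- two elements of `SU₃` not commuting modulo scalars -/
theorem exists_noncomm_su (hF : Fintype.card F = q ^ 2) : ∃ x y : SpecialLinearGroup (Fin 3) F,
    x ∈ SU 3 F q ∧ y ∈ SU 3 F q ∧ ∀ c : F, (y * x).1 ≠ c • (x * y).1 := by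
  obtain ⟨ζ, h1, h0, hn⟩ := exists_norm_one_ne hF
  have hn1 : ζ * (conj hF) ζ = 1 := hn
  have hn' : ζ⁻¹ * ((conj hF) ζ)⁻¹ = 1 := by
    rw [← mul_inv, hn1, inv_one]
  refine ⟨⟨!![ζ, 0, 0; 0, 1, 0; 0, 0, ζ⁻¹], by simp [Matrix.det_fin_three, h0]⟩,
    ⟨!![0, 1, 0; 1, 0, 0; 0, 0, -1], by simp [Matrix.det_fin_three]⟩, ?_, ?_, ?_⟩
  · refine (mem_SU_iff _).2 ((un_iff hF _).2 ?_)
    ext i j
    fin_cases i <;> fin_cases j <;> simp [Matrix.mul_apply, Fin.sum_univ_three, hn1, hn']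
  · refine (mem_SU_iff _).2 ((un_iff hF _).2 ?_)
    ext i j
    fin_cases i <;> fin_cases j <;> simp [Matrix.mul_apply, Fin.sum_univ_three]
  · intro c h
    have h' : (!![0, 1, 0; 1, 0, 0; 0, 0, -1] * !![ζ, 0, 0; 0, 1, 0; 0, 0, ζ⁻¹] : Matrix (Fin 3) (Fin 3) F) =
      c • (!![ζ, 0, 0; 0, 1, 0; 0, 0, ζ⁻¹] * !![0, 1, 0; 1, 0, 0; 0, 0, -1] : Matrix (Fin 3) (Fin 3) F) := h
    have h2 := congrFun (congrFun h' 2) 2
    have h3 := congrFun (congrFun h' 1) 0
    simp [Matrix.mul_apply, Fin.sum_univ_three] at h2 h3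
    have h4 : c * ζ⁻¹ = ζ⁻¹ := h2.symm
    have h5 : c = 1 := by
      apply mul_right_cancel₀ (inv_ne_zero h0)
      rw [h4, one_mul]
    exact h1 (by rw [h3, h5])

end Cfsg.Agent.H108.Nine
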